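import Cfsg.Agent.Lib.ConwayModTwo.Model
import Cfsg.Prelude.Def_Spor_Conway

/-!
Checks on the basis and on the generators.
-/

set_option autoImplicit false
set_option maxRecDepth 100000

namespace Cfsg.Agent.ConwayModTwo

open Cfsg Cfsg.Agent.Leech Cfsg.Agent.ConwayOut

theorem basis_ok : basisOK = true := by decide +kernel

theorem gens_ok : gensOK = true := by decide +kernel

theorem fix_coords : fixCoords.length = 24 ∧
    ∀ n < 24, sumAt fixCoords n = if n = 0 ∨ n = 23 then 4 else 0 := by decide +kernel

theorem leechU_dec : ∀ p : GolayPt,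
    (Spor.leechU : GolayPt → ℤ) p = if (Mathieu.ptEnc p).val = 0 ∨ (Mathieu.ptEnc p).val = 23 then 4 else 0 := by
  decide +kernel

end Cfsg.Agent.ConwayModTwo
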