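import Cfsg.Agent.Lib.Schur.StableCert

/-!
Certificates for the Schur multiplier of co2: indices in the table, rules with derivations, separating data.
-/

set_option autoImplicit false
set_option maxRecDepth 100000

namespace Cfsg.Agent.ConwayModTwo

/-- The elements for 2. -/
def twoTwoIdx : List ℕ := [1410, 1420, 1434, 1449, 1460, 1473, 1486, 1503, 1513, 1527, 1537, 1545, 1557, 1570, 1583, 1593, 1603, 1615, 1626, 1636]

/-- The separating data for 2. -/
def twoTwoSeps : List (List ℕ × ℕ × ℕ) := [
  ([], 847902, 4194304),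
  ([8812596, 4270132], 239559, 524288),
  ([], 239559, 4194304),
  ([8812596, 4270132], 323619, 524288),
  ([4270132], 323619, 8388608),
  ([], 323619, 4194304),
  ([8812596, 4270132], 74957, 524288),
  ([], 74957, 4194304),
  ([8812596, 4270132, 847902, 323619, 239559], 814, 12779520),
  ([8812596, 4270132, 847902], 814, 8519680),
  ([8812596, 4270132], 814, 524288),
  ([], 814, 4194304),
  ([], 2132281, 4194304),
  ([8812596, 4270132], 36864, 524288),
  ([], 36864, 4194304),
  ([], 22707, 4194304),
  ([], 1400, 4194304),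
  ([], 2147, 4194304)]

/-- Certificate for 2 (rules) -/
def twoTwoCertRules : List (List ℕ × List ℕ) := [
  ([0, 0], [5]),
  ([1, 0], [0, 1, 2]),
  ([2, 0], [0, 2]),
  ([3, 0], [0, 3, 5]),
  ([4, 0], [0, 4, 13, 16, 17]),
  ([5, 0], [0, 5]),
  ([6, 0], [0, 6, 7]),
  ([7, 0], [0, 7, 15, 16, 17]),
  ([8, 0], [0, 8, 10, 13, 14]),
  ([9, 0], [0, 9, 13, 17]),
  ([10, 0], [0, 10, 11]),
  ([11, 0], [0, 11, 15, 17]),
  ([12, 0], [0, 12]),
  ([13, 0], [0, 13, 14]),
  ([14, 0], [0, 14, 16]),
  ([15, 0], [0, 15]),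
  ([16, 0], [0, 16]),
  ([17, 0], [0, 17]),
  ([1, 1], []),
  ([2, 1], [1, 2]),
  ([3, 1], [1, 3]),
  ([4, 1], [1, 4, 6]),
  ([5, 1], [1, 5]),
  ([6, 1], [1, 6]),
  ([7, 1], [1, 7, 12]),
  ([8, 1], [1, 8, 10, 13]),
  ([9, 1], [1, 9, 10]),
  ([10, 1], [1, 10]),
  ([11, 1], [1, 11, 16, 17]),
  ([12, 1], [1, 12]),
  ([13, 1], [1, 13]),
  ([14, 1], [1, 14, 15]),
  ([15, 1], [1, 15]),
  ([16, 1], [1, 16]),
  ([17, 1], [1, 17]),
  ([2, 2], []),
  ([3, 2], [2, 3]),
  ([4, 2], [2, 4, 7, 12, 15, 16, 17]),
  ([5, 2], [2, 5]),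
  ([6, 2], [2, 6, 12]),
  ([7, 2], [2, 7]),
  ([8, 2], [2, 8, 11, 14, 15]),
  ([9, 2], [2, 9, 11, 15, 16]),
  ([10, 2], [2, 10, 16, 17]),
  ([11, 2], [2, 11]),
  ([12, 2], [2, 12]),
  ([13, 2], [2, 13, 15]),
  ([14, 2], [2, 14]),
  ([15, 2], [2, 15]),
  ([16, 2], [2, 16]),
  ([17, 2], [2, 17]),
  ([3, 3], []),
  ([4, 3], [3, 4, 13, 14, 17]),
  ([5, 3], [3, 5]),
  ([6, 3], [3, 6, 15, 16, 17]),
  ([7, 3], [3, 7, 15, 16, 17]),
  ([8, 3], [3, 8, 10, 11, 13, 14, 15]),
  ([9, 3], [3, 9, 13, 14, 16, 17]),
  ([10, 3], [3, 10, 15, 17]),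
  ([11, 3], [3, 11, 15, 17]),
  ([12, 3], [3, 12]),
  ([13, 3], [3, 13, 16]),
  ([14, 3], [3, 14, 16]),
  ([15, 3], [3, 15]),
  ([16, 3], [3, 16]),
  ([17, 3], [3, 17]),
  ([4, 4], []),
  ([5, 4], [4, 5, 14]),
  ([6, 4], [4, 6]),
  ([7, 4], [4, 7, 16, 17]),
  ([8, 4], [4, 8, 9]),
  ([9, 4], [4, 9]),
  ([10, 4], [4, 10, 13]),
  ([11, 4], [4, 11, 14]),
  ([12, 4], [4, 12]),
  ([13, 4], [4, 13]),
  ([14, 4], [4, 14]),
  ([15, 4], [4, 15, 16, 17]),
  ([16, 4], [4, 16]),
  ([17, 4], [4, 17]),
  ([5, 5], []),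
  ([6, 5], [5, 6, 15, 16, 17]),
  ([7, 5], [5, 7]),
  ([8, 5], [5, 8, 11, 14, 16]),
  ([9, 5], [5, 9, 14]),
  ([10, 5], [5, 10, 15, 17]),
  ([11, 5], [5, 11]),
  ([12, 5], [5, 12]),
  ([13, 5], [5, 13, 16]),
  ([14, 5], [5, 14]),
  ([15, 5], [5, 15]),
  ([16, 5], [5, 16]),
  ([17, 5], [5, 17]),
  ([6, 6], []),
  ([7, 6], [6, 7]),
  ([8, 6], [6, 8, 10]),
  ([9, 6], [6, 9, 13]),
  ([10, 6], [6, 10]),
  ([11, 6], [6, 11, 15, 16, 17]),
  ([12, 6], [6, 12]),
  ([13, 6], [6, 13]),
  ([14, 6], [6, 14, 16, 17]),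
  ([15, 6], [6, 15]),
  ([16, 6], [6, 16]),
  ([17, 6], [6, 17]),
  ([7, 7], []),
  ([8, 7], [7, 8, 11]),
  ([9, 7], [7, 9, 14]),
  ([10, 7], [7, 10, 15, 16, 17]),
  ([11, 7], [7, 11]),
  ([12, 7], [7, 12]),
  ([13, 7], [7, 13, 16, 17]),
  ([14, 7], [7, 14]),
  ([15, 7], [7, 15]),
  ([16, 7], [7, 16]),
  ([17, 7], [7, 17]),
  ([8, 8], [17]),
  ([9, 8], [8, 9]),
  ([10, 8], [8, 10]),
  ([11, 8], [8, 11]),
  ([12, 8], [8, 12, 15, 16]),
  ([13, 8], [8, 13]),
  ([14, 8], [8, 14, 17]),
  ([15, 8], [8, 15, 17]),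
  ([16, 8], [8, 16, 17]),
  ([17, 8], [8, 17]),
  ([9, 9], []),
  ([10, 9], [9, 10]),
  ([11, 9], [9, 11, 17]),
  ([12, 9], [9, 12, 16]),
  ([13, 9], [9, 13]),
  ([14, 9], [9, 14]),
  ([15, 9], [9, 15, 17]),
  ([16, 9], [9, 16]),
  ([17, 9], [9, 17]),
  ([10, 10], []),
  ([11, 10], [10, 11]),
  ([12, 10], [10, 12]),
  ([13, 10], [10, 13]),
  ([14, 10], [10, 14, 17]),
  ([15, 10], [10, 15]),
  ([16, 10], [10, 16]),
  ([17, 10], [10, 17]),
  ([11, 11], []),
  ([12, 11], [11, 12]),
  ([13, 11], [11, 13, 17]),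
  ([14, 11], [11, 14]),
  ([15, 11], [11, 15]),
  ([16, 11], [11, 16]),
  ([17, 11], [11, 17]),
  ([12, 12], []),
  ([13, 12], [12, 13]),
  ([14, 12], [12, 14]),
  ([15, 12], [12, 15]),
  ([16, 12], [12, 16]),
  ([17, 12], [12, 17]),
  ([13, 13], []),
  ([14, 13], [13, 14]),
  ([15, 13], [13, 15]),
  ([16, 13], [13, 16]),
  ([17, 13], [13, 17]),
  ([14, 14], []),
  ([15, 14], [14, 15]),
  ([16, 14], [14, 16]),
  ([17, 14], [14, 17]),
  ([15, 15], []),
  ([16, 15], [15, 16]),
  ([17, 15], [15, 17]),
  ([16, 16], []),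
  ([17, 16], [16, 17]),
  ([17, 17], []),
  ([18, 0, 6, 7], [1, 2, 5, 6, 8, 10, 11, 12, 15, 16, 17, 18]),
  ([18, 3, 6, 15, 16, 17], [2, 3, 8, 11, 12, 13, 18]),
  ([18, 4], [3, 10, 11, 13, 14, 16, 17, 18]),
  ([18, 5], [1, 10, 12, 15, 16, 17, 18]),
  ([18, 7], [1, 18]),
  ([18, 8], [8, 9, 14, 15, 16, 18]),
  ([18, 9], [10, 11, 15, 18]),
  ([18, 10], [8, 10, 11, 13, 15, 16, 18]),
  ([18, 11], [13, 15, 18]),
  ([18, 12], [1, 3, 5, 12, 17, 18]),
  ([18, 13], [10, 11, 13, 14, 15, 16, 18]),
  ([18, 14], [16, 17, 18]),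
  ([18, 15], [10, 13, 15, 17, 18]),
  ([18, 16], [15, 16, 18]),
  ([18, 17], [17, 18]),
  ([19, 1, 2], [2, 5, 7, 11, 14, 17, 19]),
  ([19, 3], [7, 11, 14, 15, 16, 19]),
  ([19, 4, 9], [3, 7, 11, 12, 13, 14, 15, 17, 19]),
  ([19, 5], [3, 5, 12, 16, 17, 19]),
  ([19, 6, 11, 15, 16, 17], [0, 2, 4, 5, 6, 7, 9, 10, 12, 13, 14, 16, 19]),
  ([19, 7, 11], [3, 4, 5, 6, 7, 9, 10, 11, 13, 14, 16, 19]),
  ([19, 10, 11], [0, 2, 3, 11, 12, 17, 19]),
  ([19, 12], [5, 12, 19]),
  ([19, 13], [3, 4, 5, 7, 9, 11, 12, 13, 15, 16, 19]),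
  ([19, 14], [3, 4, 7, 9, 11, 12, 13, 15, 16, 19]),
  ([19, 15], [7, 11, 12, 14, 15, 16, 19]),
  ([19, 16], [16, 19]),
  ([19, 17], [5, 7, 11, 12, 14, 16, 17, 19])]

/-- Certificate for 2 (equations) -/
def twoTwoCertEqs0 : List (List ℕ × List Schur.StableCert.Step × List Schur.StableCert.Step) := [
  ([17, 15, 4], [(0, 167, true), (1, 79, true), (0, 77, true), (3, 170, true)],
    [(1, 77, true), (0, 79, true), (1, 167, true), (2, 169, true), (3, 170, true)]),
  ([17, 14, 1], [(0, 164, true), (1, 34, true), (0, 31, true)],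
    [(1, 31, true), (0, 34, true), (1, 164, true), (2, 167, true)]),
  ([17, 13, 0], [(0, 160, true), (1, 17, true), (0, 13, true)],
    [(1, 13, true), (0, 17, true), (1, 160, true), (2, 164, true)]),
  ([17, 10, 4], [(0, 142, true), (1, 79, true), (0, 72, true)],
    [(1, 72, true), (0, 79, true), (1, 142, true), (2, 160, true)]),
  ([17, 10, 0], [(0, 142, true), (1, 17, true), (0, 10, true)],
    [(1, 10, true), (0, 17, true), (1, 142, true), (2, 149, true)]),
  ([17, 9, 1], [(0, 134, true), (1, 34, true), (0, 26, true)],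
    [(1, 26, true), (0, 34, true), (1, 134, true), (2, 142, true)]),
  ([17, 8, 4], [(0, 125, true), (1, 79, true), (0, 70, true)],
    [(1, 70, true), (0, 79, true), (1, 125, true), (2, 134, true)]),
  ([17, 7, 1], [(0, 115, true), (1, 34, true), (0, 24, true)],
    [(1, 24, true), (0, 34, true), (1, 115, true), (2, 155, true)]),
  ([17, 6, 0], [(0, 104, true), (1, 17, true), (0, 6, true)],
    [(1, 6, true), (0, 17, true), (1, 104, true), (2, 115, true)]),
  ([17, 4, 1], [(0, 79, true), (1, 34, true), (0, 21, true)],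
    [(1, 21, true), (0, 34, true), (1, 79, true), (2, 104, true)]),
  ([17, 3, 0], [(0, 65, true), (1, 17, true), (0, 3, true)],
    [(1, 3, true), (0, 17, true), (1, 65, true), (2, 92, true)]),
  ([17, 1, 0], [(0, 34, true), (1, 17, true), (0, 1, true)],
    [(1, 1, true), (0, 17, true), (1, 34, true), (2, 50, true)]),
  ([16, 14, 1], [(0, 163, true), (1, 33, true), (0, 31, true)],
    [(1, 31, true), (0, 33, true), (1, 163, true), (2, 166, true)]),
  ([16, 13, 0], [(0, 159, true), (1, 16, true), (0, 13, true)],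
    [(1, 13, true), (0, 16, true), (1, 159, true), (2, 163, true)]),
  ([16, 10, 4], [(0, 141, true), (1, 78, true), (0, 72, true)],
    [(1, 72, true), (0, 78, true), (1, 141, true), (2, 159, true)]),
  ([16, 10, 0], [(0, 141, true), (1, 16, true), (0, 10, true)],
    [(1, 10, true), (0, 16, true), (1, 141, true), (2, 148, true)])]

/-- Certificate for 2 (equations) -/
def twoTwoCertEqs1 : List (List ℕ × List Schur.StableCert.Step × List Schur.StableCert.Step) := [
  ([16, 9, 1], [(0, 133, true), (1, 33, true), (0, 26, true)],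
    [(1, 26, true), (0, 33, true), (1, 133, true), (2, 141, true)]),
  ([16, 8, 4], [(0, 124, true), (2, 79, true), (1, 78, true), (0, 70, true)],
    [(1, 70, true), (0, 78, true), (1, 124, true), (3, 134, true), (2, 133, true)]),
  ([16, 8, 3], [(0, 124, true), (2, 65, true), (1, 64, true), (0, 56, true)],
    [(1, 56, true), (0, 64, true), (1, 124, true), (3, 142, true), (2, 141, true), (4, 149, true), (3, 148, true), (5, 160, true), (4, 159, true), (6, 164, true), (5, 163, true), (7, 167, true), (6, 166, true)]),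
  ([16, 8, 1], [(0, 124, true), (2, 34, true), (1, 33, true), (0, 25, true)],
    [(1, 25, true), (0, 33, true), (1, 124, true), (3, 142, true), (2, 141, true), (4, 160, true), (3, 159, true)]),
  ([16, 8, 0], [(0, 124, true), (2, 17, true), (1, 16, true), (0, 8, true)],
    [(1, 8, true), (0, 16, true), (1, 124, true), (3, 142, true), (2, 141, true), (4, 160, true), (3, 159, true), (5, 164, true), (4, 163, true)]),
  ([16, 7, 1], [(0, 114, true), (1, 33, true), (0, 24, true)],
    [(1, 24, true), (0, 33, true), (1, 114, true), (2, 154, true)]),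
  ([16, 6, 0], [(0, 103, true), (1, 16, true), (0, 6, true)],
    [(1, 6, true), (0, 16, true), (1, 103, true), (2, 114, true)]),
  ([16, 4, 1], [(0, 78, true), (1, 33, true), (0, 21, true)],
    [(1, 21, true), (0, 33, true), (1, 78, true), (2, 103, true)]),
  ([16, 3, 0], [(0, 64, true), (1, 16, true), (0, 3, true)],
    [(1, 3, true), (0, 16, true), (1, 64, true), (2, 91, true)]),
  ([16, 1, 0], [(0, 33, true), (1, 16, true), (0, 1, true)],
    [(1, 1, true), (0, 16, true), (1, 33, true), (2, 49, true)]),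
  ([15, 13, 0], [(0, 158, true), (1, 15, true), (0, 13, true)],
    [(1, 13, true), (0, 15, true), (1, 158, true), (2, 162, true)]),
  ([15, 10, 4], [(0, 140, true), (1, 77, true), (0, 72, true)],
    [(1, 72, true), (0, 77, true), (3, 142, true), (2, 141, true), (1, 140, true), (4, 160, true), (3, 159, true), (2, 158, true)]),
  ([15, 10, 0], [(0, 140, true), (1, 15, true), (0, 10, true)],
    [(1, 10, true), (0, 15, true), (1, 140, true), (2, 147, true)]),
  ([15, 9, 8], [(0, 132, true), (2, 125, true), (1, 123, true), (0, 117, true), (3, 170, true)],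
    [(1, 117, true), (0, 123, true), (2, 134, true), (1, 132, true), (3, 170, true)]),
  ([15, 9, 1], [(0, 132, true), (2, 34, true), (1, 32, true), (0, 26, true)],
    [(1, 26, true), (0, 32, true), (1, 132, true), (3, 142, true), (2, 140, true)]),
  ([15, 8, 4], [(0, 123, true), (2, 79, true), (1, 77, true), (0, 70, true), (5, 170, true)],
    [(1, 70, true), (0, 77, true), (3, 125, true), (2, 124, true), (1, 123, true), (3, 169, true), (4, 170, true), (4, 134, true), (3, 133, true), (2, 132, true), (4, 169, true), (5, 170, true)])]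

/-- Certificate for 2 (equations) -/
def twoTwoCertEqs2 : List (List ℕ × List Schur.StableCert.Step × List Schur.StableCert.Step) := [
  ([15, 7, 1], [(0, 113, true), (1, 32, true), (0, 24, true)],
    [(1, 24, true), (0, 32, true), (1, 113, true), (2, 153, true)]),
  ([15, 6, 0], [(0, 102, true), (1, 15, true), (0, 6, true)],
    [(1, 6, true), (0, 15, true), (1, 102, true), (2, 113, true)]),
  ([15, 4, 3], [(0, 77, true), (3, 65, true), (2, 64, true), (1, 63, true), (0, 52, true), (4, 167, true), (5, 169, true), (6, 170, true)],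
    [(1, 52, true), (0, 63, true), (1, 77, true), (4, 160, true), (3, 159, true), (2, 158, true), (5, 164, true), (4, 163, true), (3, 162, true), (6, 170, true)]),
  ([15, 4, 1], [(0, 77, true), (3, 34, true), (2, 33, true), (1, 32, true), (0, 21, true)],
    [(1, 21, true), (0, 32, true), (1, 77, true), (4, 104, true), (3, 103, true), (2, 102, true)]),
  ([15, 4, 0], [(0, 77, true), (3, 17, true), (2, 16, true), (1, 15, true), (0, 4, true), (4, 167, true), (3, 166, true), (5, 169, true), (4, 168, true), (4, 170, true)],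
    [(1, 4, true), (0, 15, true), (1, 77, true), (4, 160, true), (3, 159, true), (2, 158, true), (5, 169, true), (4, 168, true), (4, 170, true)]),
  ([15, 3, 0], [(0, 63, true), (1, 15, true), (0, 3, true)],
    [(1, 3, true), (0, 15, true), (1, 63, true), (2, 90, true)]),
  ([15, 1, 0], [(0, 32, true), (1, 15, true), (0, 1, true)],
    [(1, 1, true), (0, 15, true), (1, 32, true), (2, 48, true)]),
  ([14, 10, 4], [(0, 139, true), (2, 79, true), (1, 76, true), (0, 72, true)],
    [(1, 72, true), (0, 76, true), (1, 139, true), (3, 160, true), (2, 157, true)]),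
  ([14, 10, 0], [(0, 139, true), (2, 17, true), (1, 14, true), (0, 10, true)],
    [(1, 10, true), (0, 14, true), (2, 141, true), (1, 139, true), (3, 169, true), (4, 149, true), (3, 148, true), (2, 146, true)]),
  ([14, 9, 1], [(0, 131, true), (1, 31, true), (0, 26, true)],
    [(1, 26, true), (0, 31, true), (2, 132, true), (1, 131, true), (4, 142, true), (3, 140, true), (2, 139, true), (4, 167, true), (5, 170, true)]),
  ([14, 8, 6], [(0, 122, true), (2, 104, true), (1, 101, true), (0, 95, true), (5, 170, true)],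
    [(1, 95, true), (0, 101, true), (3, 125, true), (2, 124, true), (1, 122, true), (3, 169, true), (4, 170, true), (4, 142, true), (3, 141, true), (2, 139, true), (4, 169, true), (5, 170, true)]),
  ([14, 8, 4], [(0, 122, true), (2, 79, true), (1, 76, true), (0, 70, true)],
    [(1, 70, true), (0, 76, true), (1, 122, true), (3, 134, true), (2, 131, true)]),
  ([14, 8, 3], [(0, 122, true), (2, 65, true), (1, 62, true), (0, 56, true), (6, 162, true), (5, 161, true)],
    [(1, 56, true), (0, 62, true), (2, 124, true), (1, 122, true), (3, 169, true), (4, 170, true), (3, 141, true), (2, 139, true), (4, 169, true), (5, 149, true), (4, 148, true), (3, 146, true), (6, 160, true), (5, 159, true), (4, 157, true), (7, 164, true), (6, 163, true), (5, 161, true), (6, 167, true), (5, 166, true)]),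
  ([14, 8, 1], [(0, 122, true), (2, 34, true), (1, 31, true), (0, 25, true)],
    [(1, 25, true), (0, 31, true), (2, 123, true), (1, 122, true), (3, 167, true), (4, 170, true), (3, 140, true), (2, 139, true), (4, 167, true), (5, 160, true), (4, 158, true), (3, 157, true)]),
  ([14, 7, 1], [(0, 112, true), (1, 31, true), (0, 24, true)],
    [(1, 24, true), (0, 31, true), (2, 113, true), (1, 112, true), (3, 153, true), (2, 152, true)]),
  ([14, 6, 4], [(0, 101, true), (3, 79, true), (2, 78, true), (1, 76, true), (0, 68, true)],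
    [(1, 68, true), (0, 76, true), (1, 101, true)])]

/-- Certificate for 2 (equations) -/
def twoTwoCertEqs3 : List (List ℕ × List Schur.StableCert.Step × List Schur.StableCert.Step) := [
  ([14, 6, 0], [(0, 101, true), (3, 17, true), (2, 16, true), (1, 14, true), (0, 6, true), (4, 168, true)],
    [(1, 6, true), (0, 14, true), (2, 103, true), (1, 101, true), (4, 169, true), (3, 168, true), (3, 115, true), (2, 112, true)]),
  ([14, 4, 1], [(0, 76, true), (1, 31, true), (0, 21, true)],
    [(1, 21, true), (0, 31, true), (2, 77, true), (1, 76, true), (5, 104, true), (4, 103, true), (3, 102, true), (2, 101, true), (5, 167, true), (4, 166, true), (6, 169, true), (5, 168, true), (5, 170, true)]),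
  ([14, 3, 1], [(0, 62, true), (2, 33, true), (1, 31, true), (0, 20, true)],
    [(1, 20, true), (0, 31, true), (2, 63, true), (1, 62, true), (3, 166, true)]),
  ([14, 3, 0], [(0, 62, true), (2, 16, true), (1, 14, true), (0, 3, true), (4, 168, true)],
    [(1, 3, true), (0, 14, true), (2, 64, true), (1, 62, true), (3, 168, true), (2, 89, true)]),
  ([14, 1, 0], [(0, 31, true), (2, 15, true), (1, 14, true), (0, 1, true), (4, 166, true)],
    [(1, 1, true), (0, 14, true), (2, 33, true), (1, 31, true), (4, 49, true), (3, 48, true), (2, 47, true)]),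
  ([13, 10, 0], [(0, 138, true), (1, 13, true), (0, 10, true)],
    [(1, 10, true), (0, 13, true), (2, 139, true), (1, 138, true), (4, 149, true), (3, 146, true), (2, 145, true), (4, 164, true), (5, 170, true)]),
  ([13, 9, 1], [(0, 130, true), (1, 30, true), (0, 26, true)],
    [(1, 26, true), (0, 30, true), (1, 130, true), (2, 138, true)]),
  ([13, 8, 4], [(0, 121, true), (1, 75, true), (0, 70, true)],
    [(1, 70, true), (0, 75, true), (1, 121, true), (2, 130, true)]),
  ([13, 8, 0], [(0, 121, true), (1, 13, true), (0, 8, true), (4, 157, true), (3, 156, true), (3, 161, true)],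
    [(1, 8, true), (0, 13, true), (2, 122, true), (1, 121, true), (4, 142, true), (3, 139, true), (2, 138, true), (5, 170, true), (4, 157, true), (3, 156, true), (3, 161, true)]),
  ([13, 7, 1], [(0, 111, true), (3, 34, true), (2, 33, true), (1, 30, true), (0, 24, true)],
    [(1, 24, true), (0, 30, true), (1, 111, true), (4, 155, true), (3, 154, true), (2, 151, true)]),
  ([13, 6, 0], [(0, 100, true), (1, 13, true), (0, 6, true)],
    [(1, 6, true), (0, 13, true), (2, 101, true), (1, 100, true), (5, 115, true), (4, 114, true), (3, 112, true), (2, 111, true), (5, 164, true), (4, 163, true), (6, 169, true), (5, 168, true), (5, 170, true)]),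
  ([13, 5, 1], [(0, 88, true), (2, 33, true), (1, 30, true), (0, 22, true)],
    [(1, 22, true), (0, 30, true), (1, 88, true)]),
  ([13, 4, 2], [(0, 75, true), (1, 46, true), (0, 37, true), (6, 160, true), (5, 159, true), (4, 158, true), (7, 167, true), (6, 166, true), (5, 165, true)],
    [(1, 37, true), (0, 46, true), (2, 77, true), (1, 75, true), (5, 115, true), (4, 114, true), (3, 113, true), (2, 111, true), (5, 167, true), (4, 166, true), (6, 169, true), (5, 168, true), (5, 170, true), (4, 153, true), (3, 151, true), (5, 165, true)]),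
  ([13, 4, 1], [(0, 75, true), (1, 30, true), (0, 21, true)],
    [(1, 21, true), (0, 30, true), (1, 75, true), (2, 100, true)]),
  ([13, 4, 0], [(0, 75, true), (1, 13, true), (0, 4, true), (4, 160, true), (3, 159, true), (2, 156, true), (3, 164, true), (2, 163, true)],
    [(1, 4, true), (0, 13, true), (2, 76, true), (1, 75, true), (3, 157, true), (2, 156, true)]),
  ([13, 3, 0], [(0, 61, true), (2, 16, true), (1, 13, true), (0, 3, true)],
    [(1, 3, true), (0, 13, true), (2, 62, true), (1, 61, true), (3, 163, true), (4, 168, true), (3, 89, true), (2, 88, true), (4, 163, true)])]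

/-- Certificate for 2 (equations) -/
def twoTwoCertEqs4 : List (List ℕ × List Schur.StableCert.Step × List Schur.StableCert.Step) := [
  ([13, 2, 1], [(0, 46, true), (2, 32, true), (1, 30, true), (0, 19, true)],
    [(1, 19, true), (0, 30, true), (1, 46, true)]),
  ([13, 1, 0], [(0, 30, true), (1, 13, true), (0, 1, true)],
    [(1, 1, true), (0, 13, true), (2, 31, true), (1, 30, true), (4, 48, true), (3, 47, true), (2, 46, true), (4, 162, true), (5, 165, true)]),
  ([12, 10, 0], [(0, 137, true), (1, 12, true), (0, 10, true)],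
    [(1, 10, true), (0, 12, true), (1, 137, true), (2, 144, true)]),
  ([12, 9, 1], [(0, 129, true), (2, 33, true), (1, 29, true), (0, 26, true)],
    [(1, 26, true), (0, 29, true), (1, 129, true), (3, 141, true), (2, 137, true)]),
  ([12, 8, 4], [(0, 120, true), (3, 78, true), (2, 77, true), (1, 74, true), (0, 70, true), (6, 169, true), (5, 168, true)],
    [(1, 70, true), (0, 74, true), (1, 120, true), (4, 133, true), (3, 132, true), (2, 129, true), (4, 166, true), (6, 169, true), (5, 168, true)]),
  ([12, 8, 0], [(0, 120, true), (3, 16, true), (2, 15, true), (1, 12, true), (0, 8, true), (4, 152, true), (3, 151, true)],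
    [(1, 8, true), (0, 12, true), (1, 120, true), (4, 141, true), (3, 140, true), (2, 137, true), (5, 159, true), (4, 158, true), (6, 163, true), (5, 162, true)]),
  ([12, 6, 0], [(0, 99, true), (1, 12, true), (0, 6, true)],
    [(1, 6, true), (0, 12, true), (1, 99, true), (2, 110, true)]),
  ([12, 4, 1], [(0, 74, true), (1, 29, true), (0, 21, true)],
    [(1, 21, true), (0, 29, true), (1, 74, true), (2, 99, true)]),
  ([12, 3, 0], [(0, 60, true), (1, 12, true), (0, 3, true)],
    [(1, 3, true), (0, 12, true), (1, 60, true), (2, 87, true)]),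
  ([12, 1, 0], [(0, 29, true), (1, 12, true), (0, 1, true)],
    [(1, 1, true), (0, 12, true), (1, 29, true), (2, 45, true)]),
  ([11, 9, 1], [(0, 128, true), (2, 34, true), (1, 28, true), (0, 26, true), (5, 170, true)],
    [(1, 26, true), (0, 28, true), (3, 134, true), (2, 133, true), (1, 128, true), (3, 169, true), (4, 170, true), (3, 141, true), (2, 136, true)]),
  ([11, 8, 4], [(0, 119, true), (1, 73, true), (0, 70, true)],
    [(1, 70, true), (0, 73, true), (2, 122, true), (1, 119, true), (4, 134, true), (3, 131, true), (2, 128, true), (4, 164, true), (5, 170, true)]),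
  ([11, 6, 0], [(0, 98, true), (4, 17, true), (3, 16, true), (2, 15, true), (1, 11, true), (0, 6, true), (5, 167, true), (4, 165, true), (4, 169, true), (5, 170, true)],
    [(1, 6, true), (0, 11, true), (3, 104, true), (2, 102, true), (1, 98, true), (5, 167, true), (4, 166, true), (3, 165, true), (4, 170, true), (3, 114, true), (2, 109, true)]),
  ([11, 4, 3], [(0, 73, true), (2, 62, true), (1, 59, true), (0, 52, true), (4, 149, true), (3, 146, true), (2, 145, true), (4, 164, true), (5, 170, true), (6, 164, true), (5, 162, true), (4, 161, true), (5, 169, true)],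
    [(1, 52, true), (0, 59, true), (3, 79, true), (2, 77, true), (1, 73, true), (6, 170, true), (5, 159, true), (4, 158, true), (3, 157, true), (6, 163, true), (5, 162, true), (4, 161, true)]),
  ([11, 4, 1], [(0, 73, true), (2, 31, true), (1, 28, true), (0, 21, true), (5, 164, true), (4, 163, true), (6, 167, true), (5, 166, true)],
    [(1, 21, true), (0, 28, true), (3, 79, true), (2, 78, true), (1, 73, true), (5, 104, true), (4, 103, true), (3, 101, true), (2, 98, true), (6, 164, true), (5, 163, true), (4, 162, true), (7, 169, true), (6, 168, true), (6, 170, true)]),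
  ([11, 4, 0], [(0, 73, true), (2, 14, true), (1, 11, true), (0, 4, true), (4, 149, true), (3, 148, true), (2, 145, true), (4, 169, true), (5, 170, true), (4, 166, true), (6, 164, true), (5, 163, true), (4, 162, true), (7, 169, true), (6, 168, true)],
    [(1, 4, true), (0, 11, true), (3, 79, true), (2, 77, true), (1, 73, true), (6, 170, true), (5, 159, true), (4, 158, true), (3, 157, true), (6, 168, true)])]

/-- Certificate for 2 (equations) -/
def twoTwoCertEqs5 : List (List ℕ × List Schur.StableCert.Step × List Schur.StableCert.Step) := [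
  ([11, 3, 0], [(0, 59, true), (3, 17, true), (2, 15, true), (1, 11, true), (0, 3, true), (5, 167, true), (4, 165, true), (4, 170, true)],
    [(1, 3, true), (0, 11, true), (3, 65, true), (2, 63, true), (1, 59, true), (4, 167, true), (3, 165, true), (3, 170, true), (2, 86, true)]),
  ([11, 1, 0], [(0, 28, true), (3, 17, true), (2, 16, true), (1, 11, true), (0, 1, true), (5, 169, true), (6, 170, true)],
    [(1, 1, true), (0, 11, true), (3, 34, true), (2, 32, true), (1, 28, true), (4, 167, true), (3, 166, true), (5, 170, true), (4, 49, true), (3, 48, true), (2, 44, true)]),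
  ([10, 8, 4], [(0, 118, true), (1, 72, true), (0, 70, true)],
    [(1, 70, true), (0, 72, true), (2, 121, true), (1, 118, true), (3, 130, true), (2, 127, true)]),
  ([10, 8, 0], [(0, 118, true), (1, 10, true), (0, 8, true), (4, 139, true), (3, 138, true), (2, 135, true), (4, 149, true), (3, 146, true), (2, 145, true), (4, 164, true), (5, 170, true)],
    [(1, 8, true), (0, 10, true), (2, 119, true), (1, 118, true), (3, 136, true), (2, 135, true)]),
  ([10, 6, 0], [(0, 97, true), (1, 10, true), (0, 6, true)],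
    [(1, 6, true), (0, 10, true), (2, 98, true), (1, 97, true), (6, 115, true), (5, 114, true), (4, 113, true), (3, 109, true), (2, 108, true), (6, 149, true), (5, 148, true), (4, 147, true), (7, 167, true), (6, 166, true), (5, 165, true), (6, 169, true), (5, 168, true), (5, 170, true)]),
  ([10, 4, 3], [(0, 72, true), (2, 61, true), (1, 58, true), (0, 52, true), (4, 142, true), (3, 139, true), (2, 138, true), (5, 170, true), (6, 160, true), (5, 158, true), (4, 157, true), (3, 156, true), (5, 169, true)],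
    [(1, 52, true), (0, 58, true), (3, 79, true), (2, 77, true), (1, 72, true), (6, 170, true), (5, 159, true), (4, 158, true), (3, 156, true), (4, 163, true), (3, 162, true)]),
  ([10, 4, 1], [(0, 72, true), (2, 30, true), (1, 27, true), (0, 21, true)],
    [(1, 21, true), (0, 27, true), (1, 72, true), (3, 100, true), (2, 97, true)]),
  ([10, 4, 0], [(0, 72, true), (2, 13, true), (1, 10, true), (0, 4, true), (4, 142, true), (3, 141, true), (2, 138, true), (5, 149, true), (4, 148, true), (3, 145, true), (5, 169, true), (6, 170, true), (5, 159, true), (4, 156, true), (4, 163, true)],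
    [(1, 4, true), (0, 10, true), (2, 73, true), (1, 72, true), (3, 145, true), (5, 164, true), (6, 160, true), (5, 157, true), (4, 156, true), (5, 169, true), (6, 170, true)]),
  ([10, 3, 0], [(0, 58, true), (3, 17, true), (2, 15, true), (1, 10, true), (0, 3, true)],
    [(1, 3, true), (0, 10, true), (2, 59, true), (1, 58, true), (4, 149, true), (3, 147, true), (5, 167, true), (4, 165, true), (4, 170, true), (3, 86, true), (2, 85, true), (5, 149, true), (4, 147, true)]),
  ([10, 1, 0], [(0, 27, true), (1, 10, true), (0, 1, true)],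
    [(1, 1, true), (0, 10, true), (2, 28, true), (1, 27, true), (5, 50, true), (4, 49, true), (3, 44, true), (2, 43, true), (5, 149, true), (4, 148, true), (6, 169, true), (5, 168, true), (5, 170, true)]),
  ([9, 8, 1], [(0, 117, true), (1, 26, true), (0, 25, true), (3, 130, true), (2, 127, true), (4, 138, true), (3, 135, true)],
    [(1, 25, true), (0, 26, true), (2, 118, true), (1, 117, true), (3, 135, true)]),
  ([9, 7, 1], [(0, 107, true), (2, 31, true), (1, 26, true), (0, 24, true), (2, 129, true), (4, 141, true), (3, 137, true), (5, 163, true), (6, 166, true)],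
    [(1, 24, true), (0, 26, true), (2, 108, true), (1, 107, true), (3, 139, true), (5, 167, true), (6, 169, true), (7, 170, true), (6, 154, true), (5, 153, true), (4, 152, true)]),
  ([9, 6, 4], [(0, 96, true), (2, 75, true), (1, 71, true), (0, 68, true)],
    [(1, 68, true), (0, 71, true), (1, 96, true)]),
  ([9, 6, 0], [(0, 96, true), (2, 13, true), (1, 9, true), (0, 6, true), (5, 160, true), (4, 156, true), (4, 164, true)],
    [(1, 6, true), (0, 9, true), (3, 104, true), (2, 100, true), (1, 96, true), (3, 156, true), (3, 115, true), (2, 107, true)]),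
  ([9, 5, 1], [(0, 84, true), (2, 31, true), (1, 26, true), (0, 22, true)],
    [(1, 22, true), (0, 26, true), (2, 85, true), (1, 84, true), (3, 139, true), (5, 167, true), (6, 170, true)]),
  ([9, 4, 2], [(0, 71, true), (1, 42, true), (0, 37, true), (6, 134, true), (5, 133, true), (4, 132, true), (3, 129, true), (5, 166, true), (7, 169, true), (6, 168, true), (6, 170, true), (5, 147, true), (4, 144, true), (6, 165, true)],
    [(1, 37, true), (0, 42, true), (4, 78, true), (3, 77, true), (2, 73, true), (1, 71, true), (7, 169, true), (6, 168, true), (6, 115, true), (5, 113, true), (4, 112, true), (3, 109, true), (2, 107, true), (4, 146, true), (5, 161, true), (6, 155, true), (5, 153, true), (7, 167, true), (6, 165, true), (6, 169, true), (7, 170, true)])]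

/-- Certificate for 2 (equations) -/
def twoTwoCertEqs6 : List (List ℕ × List Schur.StableCert.Step × List Schur.StableCert.Step) := [
  ([9, 4, 1], [(0, 71, true), (1, 26, true), (0, 21, true)],
    [(1, 21, true), (0, 26, true), (2, 72, true), (1, 71, true), (4, 100, true), (3, 97, true), (2, 96, true), (4, 138, true), (5, 156, true)]),
  ([9, 3, 1], [(0, 57, true), (5, 34, true), (4, 33, true), (3, 31, true), (2, 30, true), (1, 26, true), (0, 20, true)],
    [(1, 20, true), (0, 26, true), (2, 58, true), (1, 57, true), (6, 142, true), (5, 141, true), (4, 139, true), (3, 138, true), (6, 169, true), (7, 170, true), (6, 166, true)]),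
  ([9, 3, 0], [(0, 57, true), (5, 17, true), (4, 16, true), (3, 14, true), (2, 13, true), (1, 9, true), (0, 3, true), (5, 160, true), (4, 156, true), (4, 164, true), (5, 164, true), (4, 161, true), (4, 169, true), (5, 169, true), (4, 168, true), (4, 170, true)],
    [(1, 3, true), (0, 9, true), (3, 65, true), (2, 61, true), (1, 57, true), (6, 160, true), (5, 159, true), (4, 157, true), (3, 156, true), (5, 169, true), (4, 168, true), (4, 170, true), (3, 89, true), (2, 84, true), (4, 161, true)]),
  ([9, 2, 0], [(0, 42, true), (4, 16, true), (3, 15, true), (2, 11, true), (1, 9, true), (0, 2, true), (4, 149, true), (3, 145, true), (5, 170, true), (6, 167, true), (5, 165, true), (5, 169, true)],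
    [(1, 2, true), (0, 9, true), (3, 50, true), (2, 46, true), (1, 42, true), (5, 159, true), (4, 158, true), (6, 166, true), (5, 165, true)]),
  ([9, 1, 0], [(0, 26, true), (2, 10, true), (1, 9, true), (0, 1, true), (5, 142, true), (4, 138, true), (6, 149, true), (5, 145, true), (7, 170, true)],
    [(1, 1, true), (0, 9, true), (3, 34, true), (2, 30, true), (1, 26, true), (5, 50, true), (4, 46, true), (3, 43, true), (2, 42, true), (6, 141, true), (5, 140, true), (4, 136, true), (7, 168, true), (7, 160, true), (6, 158, true), (8, 167, true), (7, 165, true), (7, 170, true)]),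
  ([8, 7, 1], [(0, 106, true), (2, 28, true), (1, 25, true), (0, 24, true), (2, 120, true), (5, 141, true), (4, 140, true), (3, 137, true), (6, 159, true), (5, 158, true), (7, 148, true), (6, 147, true), (5, 145, true), (4, 144, true), (7, 167, true), (8, 169, true), (9, 169, true), (8, 168, true), (8, 170, true)],
    [(1, 24, true), (0, 25, true), (3, 111, true), (2, 108, true), (1, 106, true), (3, 136, true), (7, 160, true), (6, 159, true), (5, 158, true), (8, 169, true), (7, 168, true), (7, 170, true), (6, 153, true), (5, 151, true)]),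
  ([8, 6, 4], [(0, 95, true), (2, 72, true), (1, 70, true), (0, 68, true)],
    [(1, 68, true), (0, 70, true), (2, 96, true), (1, 95, true), (3, 127, true)]),
  ([8, 6, 1], [(0, 95, true), (2, 27, true), (1, 25, true), (0, 23, true), (4, 138, true), (3, 135, true)],
    [(1, 23, true), (0, 25, true), (3, 100, true), (2, 97, true), (1, 95, true), (3, 135, true)]),
  ([8, 6, 0], [(0, 95, true), (2, 10, true), (1, 8, true), (0, 6, true), (6, 139, true), (5, 138, true), (4, 135, true), (6, 149, true), (5, 146, true), (4, 145, true), (6, 164, true), (7, 170, true)],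
    [(1, 6, true), (0, 8, true), (4, 101, true), (3, 100, true), (2, 97, true), (1, 95, true), (3, 135, true), (6, 115, true), (5, 114, true), (4, 112, true), (3, 111, true), (2, 106, true), (7, 164, true), (6, 163, true), (8, 169, true), (7, 168, true), (7, 170, true)]),
  ([8, 5, 1], [(0, 83, true), (4, 33, true), (3, 31, true), (2, 28, true), (1, 25, true), (0, 22, true), (4, 145, true), (6, 169, true), (7, 170, true), (6, 163, true), (7, 166, true), (8, 168, true)],
    [(1, 22, true), (0, 25, true), (3, 88, true), (2, 85, true), (1, 83, true), (5, 141, true), (4, 139, true), (3, 136, true), (6, 169, true), (7, 167, true), (6, 166, true), (8, 170, true), (7, 159, true), (6, 158, true), (5, 157, true), (8, 168, true)]),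
  ([8, 4, 3], [(0, 70, true), (2, 57, true), (1, 56, true), (0, 52, true), (4, 125, true), (3, 122, true), (2, 121, true), (5, 170, true), (4, 139, true), (3, 138, true), (6, 149, true), (5, 146, true), (4, 145, true), (6, 164, true), (7, 170, true), (6, 157, true), (5, 156, true), (5, 161, true), (5, 132, true), (4, 128, true), (3, 127, true), (6, 167, true), (7, 170, true), (6, 158, true), (7, 162, true)],
    [(1, 52, true), (0, 56, true), (6, 77, true), (5, 76, true), (4, 75, true), (3, 73, true), (2, 72, true), (1, 70, true), (5, 145, true), (7, 164, true), (8, 160, true), (7, 157, true), (6, 156, true), (7, 164, true), (6, 161, true), (6, 167, true), (7, 169, true), (8, 170, true), (7, 159, true), (6, 158, true), (8, 163, true), (7, 162, true)]),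
  ([8, 4, 1], [(0, 70, true), (2, 26, true), (1, 25, true), (0, 21, true), (5, 130, true), (4, 127, true), (6, 138, true), (5, 135, true)],
    [(1, 21, true), (0, 25, true), (3, 75, true), (2, 72, true), (1, 70, true), (5, 156, true), (4, 97, true), (3, 96, true), (2, 95, true), (4, 127, true), (6, 138, true), (5, 135, true)]),
  ([8, 4, 0], [(0, 70, true), (2, 9, true), (1, 8, true), (0, 4, true), (4, 125, true), (3, 124, true), (2, 121, true), (5, 170, true), (4, 141, true), (3, 138, true), (5, 159, true), (4, 156, true), (4, 163, true), (5, 133, true), (4, 131, true), (3, 127, true), (6, 159, true), (5, 157, true)],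
    [(1, 4, true), (0, 8, true), (4, 76, true), (3, 75, true), (2, 72, true), (1, 70, true), (5, 156, true), (5, 157, true)]),
  ([8, 3, 1], [(0, 56, true), (6, 32, true), (5, 31, true), (4, 30, true), (3, 28, true), (2, 27, true), (1, 25, true), (0, 20, true), (4, 138, true), (3, 135, true), (3, 145, true), (5, 169, true), (6, 170, true), (5, 159, true), (4, 156, true), (4, 163, true), (5, 166, true), (6, 166, true), (5, 165, true)],
    [(1, 20, true), (0, 25, true), (3, 61, true), (2, 58, true), (1, 56, true), (7, 140, true), (6, 139, true), (5, 138, true), (4, 136, true), (3, 135, true), (6, 167, true), (7, 167, true), (6, 165, true), (6, 170, true), (5, 157, true), (4, 156, true)]),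
  ([8, 3, 0], [(0, 56, true), (6, 15, true), (5, 14, true), (4, 13, true), (3, 11, true), (2, 10, true), (1, 8, true), (0, 3, true), (6, 139, true), (5, 138, true), (4, 135, true), (6, 149, true), (5, 146, true), (4, 145, true), (6, 164, true), (7, 170, true), (6, 146, true), (5, 145, true), (4, 143, true), (5, 164, true), (6, 167, true), (7, 170, true), (6, 158, true), (5, 157, true), (4, 156, true), (5, 162, true), (4, 161, true), (4, 162, true), (6, 166, true), (5, 165, true)],
    [(1, 3, true), (0, 8, true), (4, 62, true), (3, 61, true), (2, 58, true), (1, 56, true), (7, 140, true), (6, 139, true), (5, 138, true), (4, 136, true), (3, 135, true), (6, 167, true), (7, 167, true), (6, 165, true), (6, 170, true), (5, 157, true), (4, 156, true), (5, 163, true), (4, 161, true), (4, 168, true), (3, 86, true), (2, 83, true), (6, 148, true), (5, 146, true), (4, 143, true)]),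
  ([8, 1, 0], [(0, 25, true), (3, 13, true), (2, 10, true), (1, 8, true), (0, 1, true), (6, 139, true), (5, 138, true), (4, 135, true), (6, 149, true), (5, 146, true), (4, 145, true), (6, 164, true), (7, 170, true), (6, 157, true), (5, 156, true), (5, 161, true)],
    [(1, 1, true), (0, 8, true), (4, 31, true), (3, 30, true), (2, 27, true), (1, 25, true), (4, 138, true), (3, 135, true), (3, 156, true), (4, 48, true), (3, 47, true), (2, 41, true), (6, 162, true), (5, 161, true), (5, 165, true)])]

/-- Certificate for 2 (equations) -/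
def twoTwoCertEqs7 : List (List ℕ × List Schur.StableCert.Step × List Schur.StableCert.Step) := [
  ([7, 4, 1], [(0, 69, true), (3, 34, true), (2, 33, true), (1, 24, true), (0, 21, true)],
    [(1, 21, true), (0, 24, true), (2, 74, true), (1, 69, true), (4, 155, true), (3, 154, true), (5, 104, true), (4, 103, true), (3, 99, true), (2, 94, true)]),
  ([7, 3, 1], [(0, 55, true), (4, 34, true), (3, 33, true), (2, 32, true), (1, 24, true), (0, 20, true)],
    [(1, 20, true), (0, 24, true), (2, 60, true), (1, 55, true), (5, 155, true), (4, 154, true), (3, 153, true)]),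
  ([7, 3, 0], [(0, 55, true), (4, 17, true), (3, 16, true), (2, 15, true), (1, 7, true), (0, 3, true), (6, 167, true), (5, 166, true), (4, 165, true), (5, 169, true), (4, 168, true), (4, 170, true)],
    [(1, 3, true), (0, 7, true), (4, 65, true), (3, 64, true), (2, 63, true), (1, 55, true), (5, 167, true), (4, 166, true), (3, 165, true), (4, 169, true), (3, 168, true), (3, 170, true), (2, 82, true)]),
  ([7, 1, 0], [(0, 24, true), (2, 12, true), (1, 7, true), (0, 1, true), (6, 155, true), (5, 154, true), (4, 153, true)],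
    [(1, 1, true), (0, 7, true), (4, 34, true), (3, 33, true), (2, 32, true), (1, 24, true), (6, 50, true), (5, 49, true), (4, 48, true), (3, 45, true), (2, 40, true)]),
  ([6, 4, 0], [(0, 68, true), (1, 6, true), (0, 4, true), (4, 104, true), (3, 103, true), (2, 100, true), (5, 115, true), (4, 114, true), (3, 111, true), (6, 169, true), (5, 168, true), (5, 170, true)],
    [(1, 4, true), (0, 6, true), (2, 69, true), (1, 68, true), (5, 160, true), (4, 159, true), (6, 169, true), (5, 168, true), (5, 170, true)]),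
  ([6, 3, 0], [(0, 54, true), (4, 17, true), (3, 16, true), (2, 15, true), (1, 6, true), (0, 3, true)],
    [(1, 3, true), (0, 6, true), (2, 55, true), (1, 54, true), (5, 115, true), (4, 114, true), (3, 113, true), (6, 167, true), (5, 166, true), (4, 165, true), (5, 169, true), (4, 168, true), (4, 170, true), (3, 82, true), (2, 81, true), (6, 115, true), (5, 114, true), (4, 113, true)]),
  ([6, 2, 1], [(0, 39, true), (2, 29, true), (1, 23, true), (0, 19, true)],
    [(1, 19, true), (0, 23, true), (1, 39, true)]),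
  ([6, 1, 0], [(0, 23, true), (1, 6, true), (0, 1, true)],
    [(1, 1, true), (0, 6, true), (2, 24, true), (1, 23, true), (4, 45, true), (3, 40, true), (2, 39, true), (4, 110, true), (5, 150, true)]),
  ([5, 4, 1], [(0, 67, true), (2, 31, true), (1, 22, true), (0, 21, true), (2, 81, true), (6, 164, true), (5, 163, true), (4, 162, true), (7, 167, true), (6, 166, true), (5, 165, true)],
    [(1, 21, true), (0, 22, true), (1, 67, true), (3, 101, true)]),
  ([5, 1, 0], [(0, 22, true), (1, 5, true), (0, 1, true)],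
    [(1, 1, true), (0, 5, true), (1, 22, true), (2, 38, true)]),
  ([4, 3, 1], [(0, 52, true), (4, 34, true), (3, 31, true), (2, 30, true), (1, 21, true), (0, 20, true)],
    [(1, 20, true), (0, 21, true), (2, 54, true), (1, 52, true), (5, 104, true), (4, 101, true), (3, 100, true), (7, 170, true), (6, 166, true), (7, 168, true)]),
  ([4, 3, 0], [(0, 52, true), (4, 17, true), (3, 14, true), (2, 13, true), (1, 4, true), (0, 3, true), (2, 67, true), (4, 157, true), (7, 160, true), (6, 159, true), (5, 157, true), (4, 156, true), (6, 164, true), (5, 163, true), (4, 161, true), (5, 164, true), (4, 163, true), (6, 169, true), (5, 168, true), (5, 170, true)],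
    [(1, 3, true), (0, 4, true), (4, 65, true), (3, 64, true), (2, 61, true), (1, 52, true), (5, 160, true), (4, 157, true), (3, 156, true), (4, 169, true), (5, 169, true), (4, 168, true), (4, 170, true), (3, 89, true)]),
  ([4, 2, 1], [(0, 37, true), (6, 34, true), (5, 33, true), (4, 32, true), (3, 29, true), (2, 24, true), (1, 21, true), (0, 19, true), (5, 150, true)],
    [(1, 19, true), (0, 21, true), (2, 39, true), (1, 37, true), (7, 104, true), (6, 103, true), (5, 102, true), (4, 99, true), (3, 94, true), (8, 155, true), (7, 154, true), (6, 153, true), (5, 150, true)]),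
  ([4, 2, 0], [(0, 37, true), (6, 17, true), (5, 16, true), (4, 15, true), (3, 12, true), (2, 7, true), (1, 4, true), (0, 2, true), (5, 115, true), (4, 114, true), (3, 111, true), (6, 169, true), (5, 168, true), (5, 170, true), (7, 155, true), (6, 154, true), (5, 153, true), (4, 151, true), (8, 167, true), (7, 166, true), (6, 165, true), (7, 169, true), (6, 168, true), (6, 170, true)],
    [(1, 2, true), (0, 4, true), (4, 50, true), (3, 49, true), (2, 46, true), (1, 37, true), (7, 160, true), (6, 159, true), (5, 158, true), (8, 167, true), (7, 166, true), (6, 165, true), (7, 169, true), (6, 168, true), (6, 170, true)]),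
  ([4, 1, 0], [(0, 21, true), (2, 6, true), (1, 4, true), (0, 1, true), (6, 104, true), (5, 103, true), (4, 100, true), (7, 115, true), (6, 114, true), (5, 111, true), (8, 169, true), (7, 168, true), (7, 170, true)],
    [(1, 1, true), (0, 4, true), (4, 34, true), (3, 33, true), (2, 30, true), (1, 21, true), (6, 50, true), (5, 49, true), (4, 46, true), (3, 39, true), (2, 37, true), (8, 104, true), (7, 103, true), (6, 102, true), (5, 99, true), (4, 94, true), (9, 155, true), (8, 154, true), (7, 153, true), (6, 150, true), (8, 160, true), (7, 159, true), (6, 158, true), (9, 167, true), (8, 166, true), (7, 165, true), (8, 169, true), (7, 168, true), (7, 170, true)]),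
  ([3, 1, 0], [(0, 20, true), (1, 3, true), (0, 1, true)],
    [(1, 1, true), (0, 3, true), (2, 22, true), (1, 20, true), (3, 38, true), (2, 36, true)])]

/-- Certificate for 2 (equations) -/
def twoTwoCertEqs8 : List (List ℕ × List Schur.StableCert.Step × List Schur.StableCert.Step) := [
  ([0, 0, 0], [(0, 0, true), (0, 5, true)],
    [(1, 0, true)]),
  ([1, 1, 0], [(0, 18, true)],
    [(1, 1, true), (0, 1, true), (2, 19, true), (1, 18, true), (1, 35, true)]),
  ([1, 0, 0], [(0, 1, true), (2, 2, true), (1, 1, true), (0, 0, true), (0, 22, true), (1, 38, true), (2, 38, true), (1, 35, true)],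
    [(1, 0, true)]),
  ([3, 3, 0], [(0, 51, true)],
    [(1, 3, true), (0, 3, true), (2, 53, true), (1, 51, true), (1, 80, true)]),
  ([4, 4, 0], [(0, 66, true)],
    [(1, 4, true), (0, 4, true), (4, 79, true), (3, 78, true), (2, 75, true), (1, 66, true), (3, 160, true), (2, 159, true), (1, 156, true), (2, 169, true), (1, 168, true), (1, 170, true)]),
  ([6, 6, 0], [(0, 93, true)],
    [(1, 6, true), (0, 6, true), (2, 94, true), (1, 93, true), (1, 105, true)]),
  ([6, 0, 0], [(0, 6, true), (2, 7, true), (1, 6, true), (0, 0, true), (2, 105, true)],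
    [(1, 0, true), (0, 81, true)]),
  ([8, 8, 0], [(0, 116, true), (0, 17, true)],
    [(1, 8, true), (0, 8, true), (4, 122, true), (3, 121, true), (2, 118, true), (1, 116, true), (1, 142, true), (2, 160, true), (3, 164, true), (4, 170, true), (3, 139, true), (2, 138, true), (1, 135, true), (3, 160, true), (2, 157, true), (1, 156, true), (2, 164, true), (1, 161, true)]),
  ([10, 10, 0], [(0, 135, true)],
    [(1, 10, true), (0, 10, true), (2, 136, true), (1, 135, true), (1, 143, true)]),
  ([4, 4, 1], [(0, 66, true)],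
    [(1, 21, true), (0, 21, true), (2, 68, true), (1, 66, true), (1, 93, true)]),
  ([4, 1, 1], [(0, 21, true), (2, 23, true), (1, 21, true), (0, 18, true), (1, 93, true)],
    [(1, 18, true)]),
  ([8, 8, 4], [(0, 116, true), (0, 79, true)],
    [(1, 70, true), (0, 70, true), (2, 117, true), (1, 116, true), (1, 134, true), (2, 134, true), (1, 126, true)]),
  ([8, 4, 4], [(0, 70, true), (2, 71, true), (1, 70, true), (0, 66, true), (1, 126, true)],
    [(1, 66, true)]),
  ([18, 0, 6, 7, 0, 6, 7], [(0, 171, true), (11, 171, true), (10, 34, true), (9, 33, true), (8, 32, true), (7, 29, true), (6, 28, true), (5, 27, true), (4, 25, true), (3, 23, true), (2, 22, true), (1, 19, true), (0, 18, true), (5, 138, true), (4, 135, true), (4, 145, true), (6, 169, true), (7, 170, true), (6, 154, true), (5, 151, true), (7, 166, true), (8, 168, true), (8, 50, true), (7, 48, true), (6, 46, true), (5, 45, true), (4, 44, true), (3, 41, true), (2, 39, true), (1, 38, true), (0, 35, true), (2, 120, true), (5, 148, true), (4,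 147, true), (3, 144, true), (6, 163, true), (5, 162, true), (7, 166, true), (6, 165, true), (6, 148, true), (5, 146, true), (4, 144, true), (3, 143, true), (5, 154, true), (4, 152, true), (3, 150, true), (4, 159, true), (3, 157, true), (5, 166, true), (6, 166, true), (5, 165, true), (6, 92, true), (5, 91, true), (4, 89, true), (3, 88, true), (2, 83, true), (1, 81, true), (0, 80, true), (3, 125, true), (2, 124, true), (1, 123, true), (3, 169, true), (4, 170, true), (4, 149, true), (3, 148, true), (2, 147, true), (5, 164, true), (4, 163, true), (3, 162, true), (6, 169, true), (5, 168, true), (5, 160, true), (4, 158, true), (3, 157, true), (6, 169, true), (7, 164, true), (6, 163, true), (5, 162, true), (4, 161, true), (6, 169, true), (5, 168, true), (5, 170, true), (4, 102, true), (3, 100, true), (2, 98, true), (1, 95, true), (0, 93, true), (5, 160, true), (4, 159, true), (3, 158, true), (6, 167, true), (5, 166, true), (4, 165, true), (5, 125, true), (4, 124, true), (3, 121, true), (2, 119, true), (1, 118,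 true), (0, 116, true), (0, 142, true), (1, 149, true), (2, 160, true), (3, 169, true), (4, 170, true), (4, 142, true), (3, 141, true), (2, 138, true), (1, 136, true), (0, 135, true), (3, 149, true), (2, 148, true), (1, 145, true), (0, 143, true), (1, 169, true), (2, 170, true), (1, 154, true), (0, 151, true), (2, 166, true), (3, 168, true)],
    [(3, 7, true), (2, 6, true), (1, 0, true), (3, 105, true), (5, 104, true), (4, 103, true), (3, 102, true), (2, 93, true), (4, 115, true), (3, 114, true), (2, 113, true), (0, 174, true), (6, 175, true), (7, 183, true), (11, 184, true), (13, 185, true), (5, 34, true), (4, 33, true), (3, 32, true), (2, 29, true), (1, 27, true), (0, 18, true), (4, 142, true), (3, 141, true), (2, 140, true), (1, 137, true), (0, 135, true), (3, 160, true), (2, 159, true), (1, 158, true), (4, 167, true), (3, 166, true), (2, 165, true), (3, 170, true), (2, 166, true), (3, 168, true)]),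
  ([18, 3, 6, 15, 16, 17, 3, 6, 15, 16, 17], [(0, 172, true), (6, 172, true), (5, 46, true), (4, 45, true), (3, 44, true), (2, 41, true), (1, 36, true), (0, 35, true), (4, 147, true), (3, 146, true), (2, 143, true), (3, 153, true), (2, 152, true), (4, 158, true), (3, 157, true), (5, 165, true), (4, 62, true), (3, 61, true), (2, 60, true), (1, 56, true), (0, 51, true), (5, 153, true), (4, 152, true), (3, 151, true), (6, 158, true), (5, 157, true), (4, 156, true), (6, 163, true), (5, 162, true), (4, 161, true), (5, 168, true), (4, 123, true), (3, 120, true), (2, 119, true), (1, 118, true), (0, 116, true), (0, 142, true), (1, 149, true), (2, 155, true), (3, 167, true), (4, 169, true), (5, 167, true), (4, 166, true), (3, 165, true), (4, 170, true), (3, 148, true), (2, 144, true), (1, 143, true), (2, 154, true), (1, 150, true), (1, 159, true)],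
    [(5, 65, true), (4, 64, true), (3, 63, true), (2, 54, true), (1, 51, true), (4, 167, true), (3, 166, true), (2, 165, true), (3, 169, true), (2, 168, true), (2, 170, true), (1, 93, true), (0, 183, true), (4, 184, true), (6, 185, true), (3, 167, true), (2, 165, true), (2, 169, true), (3, 170, true)]),
  ([18, 4, 4], [(0, 173, true), (7, 173, true), (6, 65, true), (5, 64, true), (4, 62, true), (3, 61, true), (2, 59, true), (1, 58, true), (0, 51, true), (2, 149, true), (1, 147, true), (3, 167, true), (2, 165, true), (2, 170, true), (3, 163, true), (4, 168, true), (5, 142, true), (4, 141, true), (3, 139, true), (2, 138, true), (1, 136, true), (0, 135, true), (3, 169, true), (4, 170, true), (3, 148, true), (2, 146, true), (1, 145, true), (0, 143, true), (1, 164, true), (2, 169, true), (3, 160, true), (2, 159, true), (1, 157, true), (0, 156, true), (2, 164, true), (1, 163, true), (0, 161, true), (1, 169, true), (0, 168, true), (0, 170, true)],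
    [(1, 66, true)])]

/-- Certificate for 2 (equations) -/
def twoTwoCertEqs9 : List (List ℕ × List Schur.StableCert.Step × List Schur.StableCert.Step) := [
  ([18, 5, 5], [(0, 174, true), (6, 174, true), (5, 34, true), (4, 33, true), (3, 32, true), (2, 29, true), (1, 27, true), (0, 18, true), (4, 142, true), (3, 141, true), (2, 140, true), (1, 137, true), (0, 135, true), (3, 155, true), (2, 154, true), (1, 153, true), (0, 150, true), (2, 167, true), (1, 166, true), (0, 165, true), (1, 169, true), (0, 168, true), (0, 170, true)],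
    [(1, 80, true)]),
  ([18, 7, 7], [(0, 175, true), (1, 175, true), (0, 18, true)],
    [(1, 105, true)]),
  ([18, 8, 8], [(0, 176, true), (5, 176, true), (4, 124, true), (3, 123, true), (2, 122, true), (1, 117, true), (0, 116, true), (0, 134, true), (1, 164, true), (2, 170, true), (3, 169, true), (4, 170, true), (3, 133, true), (2, 132, true), (1, 131, true), (0, 126, true), (2, 169, true), (3, 164, true), (2, 163, true), (1, 162, true), (0, 161, true), (2, 167, true), (1, 166, true), (0, 165, true), (1, 169, true), (0, 168, true)],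
    [(1, 116, true), (0, 185, true)]),
  ([18, 9, 9], [(0, 177, true), (3, 177, true), (2, 140, true), (1, 136, true), (0, 135, true), (1, 147, true), (0, 143, true), (0, 165, true)],
    [(1, 126, true)]),
  ([18, 10, 10], [(0, 178, true), (6, 178, true), (5, 124, true), (4, 123, true), (3, 121, true), (2, 119, true), (1, 118, true), (0, 116, true), (0, 142, true), (1, 149, true), (2, 160, true), (3, 167, true), (4, 170, true), (5, 142, true), (4, 141, true), (3, 140, true), (2, 138, true), (1, 136, true), (0, 135, true), (4, 149, true), (3, 148, true), (2, 147, true), (1, 145, true), (0, 143, true), (1, 167, true), (2, 169, true), (3, 170, true), (2, 159, true), (1, 158, true), (0, 156, true), (1, 166, true), (0, 165, true), (0, 168, true)],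
    [(1, 135, true)]),
  ([18, 12, 12], [(0, 180, true), (5, 180, true), (4, 34, true), (3, 29, true), (2, 22, true), (1, 20, true), (0, 18, true), (3, 65, true), (2, 60, true), (1, 53, true), (0, 51, true), (2, 92, true), (1, 87, true), (0, 80, true), (1, 155, true), (0, 150, true), (0, 170, true)],
    [(1, 150, true)]),
  ([18, 3, 6, 15, 16, 17, 0, 6, 7], [(0, 172, true), (6, 171, true), (5, 30, true), (4, 29, true), (3, 28, true), (2, 25, true), (1, 20, true), (0, 19, true), (5, 145, true), (7, 169, true), (8, 170, true), (7, 154, true), (6, 151, true), (8, 159, true), (7, 156, true), (7, 49, true), (6, 45, true), (5, 44, true), (4, 43, true), (3, 41, true), (2, 36, true), (1, 35, true), (5, 140, true), (4, 139, true), (3, 136, true), (6, 167, true), (7, 169, true), (8, 170, true), (7, 148, true), (6, 147, true), (5, 146, true), (4, 143, true), (6, 154, true), (5, 153, true), (4, 152, true), (7, 168, true), (6, 90, true), (5, 89, true), (4, 87, true), (3, 85, true), (2, 83, true), (6, 141, true),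 (5, 139, true), (4, 136, true), (7, 169, true), (8, 167, true), (7, 166, true), (9, 170, true), (8, 154, true), (7, 153, true), (6, 152, true), (9, 163, true), (8, 162, true), (7, 161, true), (8, 166, true), (7, 165, true), (7, 103, true), (6, 99, true), (5, 98, true), (4, 97, true), (3, 95, true), (5, 135, true), (8, 155, true), (7, 154, true), (6, 153, true), (9, 169, true), (8, 168, true), (8, 125, true), (7, 123, true), (6, 120, true), (5, 119, true), (4, 116, true), (4, 149, true), (5, 155, true), (6, 167, true), (7, 169, true), (8, 167, true), (7, 166, true), (6, 165, true), (7, 170, true), (7, 142, true), (6, 141, true), (5, 137, true), (4, 136, true), (8, 149, true), (7, 148, true), (6, 144, true), (5, 143, true), (7, 155, true), (6, 154, true), (5, 150, true), (6, 167, true), (5, 166, true), (7, 169, true), (6, 168, true), (6, 170, true)],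
    [(5, 17, true), (4, 16, true), (3, 15, true), (2, 6, true), (1, 3, true), (8, 104, true), (7, 103, true), (6, 102, true), (5, 94, true), (4, 93, true), (7, 115, true), (6, 114, true), (5, 113, true), (4, 105, true), (4, 105, false), (5, 113, false), (6, 114, false), (7, 115, false), (3, 82, false), (4, 90, false), (5, 91, false), (6, 92, false), (3, 93, false), (4, 94, false), (5, 170, false), (5, 168, false), (6, 169, false), (5, 165, false), (6, 166, false), (7, 167, false), (4, 113, false), (5, 114, false), (6, 115, false), (2, 54, false), (3, 55, false), (0, 171, true), (11, 172, true), (17, 174, true), (23, 175, true), (10, 50, true), (9, 49, true), (8, 48, true), (7, 45, true), (6, 44, true), (5, 43, true), (4, 41, true), (3, 39, true), (2, 38, true), (1, 35, true), (3, 120, true), (6, 148, true), (5, 147, true), (4, 144, true), (7, 163, true), (6, 162, true), (8, 166, true), (7, 165, true), (7, 141, true), (6, 139, true), (5, 137, true), (4, 136, true), (8, 169, true), (9, 169, true), (8,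 168, true), (8, 170, true), (7, 146, true), (6, 144, true), (5, 143, true), (6, 152, true), (5, 150, true), (8, 65, true), (7, 64, true), (6, 63, true), (5, 62, true), (4, 58, true), (3, 56, true), (2, 54, true), (1, 53, true), (6, 125, true), (5, 124, true), (4, 123, true), (6, 169, true), (7, 170, true), (7, 142, true), (6, 141, true), (5, 140, true), (8, 149, true), (7, 148, true), (6, 147, true), (9, 160, true), (8, 159, true), (7, 158, true), (10, 164, true), (9, 163, true), (8, 162, true), (11, 167, true), (10, 166, true), (9, 165, true), (10, 142, true), (9, 141, true), (8, 139, true), (7, 138, true), (6, 136, true), (5, 135, true), (8, 169, true), (9, 170, true), (8, 166, true), (10, 164, true), (9, 163, true), (8, 162, true), (7, 161, true), (9, 169, true), (8, 168, true), (8, 167, true), (7, 165, true), (7, 169, true), (8, 170, true), (7, 124, true), (6, 121, true), (5, 119, true), (4, 116, true), (4, 149, true), (5, 160, true), (6, 169, true), (7, 170, true), (6, 148, true), (5, 145, true),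 (4, 143, true), (5, 169, true), (6, 155, true), (5, 154, true), (4, 151, true), (7, 160, true), (6, 159, true), (5, 156, true), (6, 34, true), (5, 33, true), (4, 29, true), (3, 23, true), (2, 22, true), (1, 20, true), (0, 18, true), (5, 142, true), (4, 141, true), (3, 137, true), (6, 155, true), (5, 154, true), (4, 150, true), (5, 167, true), (4, 166, true), (6, 169, true), (5, 168, true), (5, 170, true), (4, 32, true), (3, 27, true), (2, 23, true), (1, 22, true), (0, 20, true)]),
  ([18, 4, 0, 6, 7], [(0, 173, true), (7, 171, true), (6, 34, true), (5, 33, true), (4, 31, true), (3, 30, true), (2, 28, true), (1, 27, true), (0, 20, true), (5, 160, true), (4, 159, true), (6, 164, true), (5, 163, true), (7, 167, true), (6, 166, true), (8, 169, true), (7, 168, true), (7, 170, true), (6, 48, true), (5, 47, true), (4, 46, true), (3, 44, true), (2, 43, true), (1, 36, true), (5, 149, true), (4, 148, true), (6, 160, true), (5, 159, true), (7, 167, true), (6, 166, true), (8, 164, true), (7, 163, true), (6, 162,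 true), (9, 167, true), (8, 166, true), (7, 165, true), (8, 92, true), (7, 91, true), (6, 89, true), (5, 88, true), (4, 86, true), (3, 85, true), (6, 149, true), (5, 147, true), (7, 160, true), (6, 158, true), (8, 169, true), (9, 164, true), (8, 163, true), (7, 162, true), (10, 169, true), (9, 168, true), (9, 170, true), (8, 102, true), (7, 101, true), (6, 100, true), (5, 98, true), (4, 97, true), (9, 160, true), (8, 159, true), (7, 158, true), (10, 164, true), (9, 163, true), (8, 162, true), (11, 169, true), (10, 168, true), (10, 170, true), (9, 165, true), (8, 122, true), (7, 121, true), (6, 119, true), (5, 118, true), (10, 142, true), (9, 139, true), (8, 138, true), (7, 136, true), (6, 135, true), (9, 170, true), (8, 146, true), (7, 145, true), (6, 143, true), (7, 164, true), (8, 155, true), (7, 152, true), (6, 151, true), (9, 167, true), (10, 169, true), (11, 170, true)],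
    [(1, 4, true), (5, 104, true), (4, 103, true), (3, 100, true), (6, 115, true), (5, 114, true), (4, 111, true), (7, 169, true), (6, 168, true), (6, 170, true), (6, 170, false), (6, 168, false), (7, 169, false), (5, 159, false), (6, 160, false), (2, 68, false), (3, 69, false), (0, 171, true), (11, 173, true), (18, 181, true), (24, 184, true), (26, 185, true), (10, 65, true), (9, 64, true), (8, 63, true), (7, 60, true), (6, 59, true), (5, 58, true), (4, 56, true), (3, 54, true), (2, 53, true), (7, 125, true), (6, 124, true), (5, 123, true), (7, 169, true), (8, 170, true), (8, 142, true), (7, 141, true), (6, 140, true), (9, 149, true), (8, 148, true), (7, 147, true), (10, 160, true), (9, 159, true), (8, 158, true), (11, 164, true), (10, 163, true), (9, 162, true), (12, 167, true), (11, 166, true), (10, 165, true), (11, 142, true), (10, 141, true), (9, 139, true), (8, 138, true), (7, 136, true), (6, 135, true), (9, 169, true), (10, 170, true), (9, 166, true), (11, 149, true), (10, 148, true), (9, 147,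 true), (8, 146, true), (7, 145, true), (6, 143, true), (7, 164, true), (8, 167, true), (9, 169, true), (10, 170, true), (9, 166, true), (8, 165, true), (9, 155, true), (8, 154, true), (7, 152, true), (6, 151, true), (10, 167, true), (9, 166, true), (11, 169, true), (10, 168, true), (10, 170, true), (9, 140, true), (8, 139, true), (7, 138, true), (6, 137, true), (10, 167, true), (11, 149, true), (10, 147, true), (9, 146, true), (8, 145, true), (7, 144, true), (10, 164, true), (11, 167, true), (12, 170, true), (11, 158, true), (10, 157, true), (9, 156, true), (10, 162, true), (9, 161, true), (11, 142, true), (10, 141, true), (9, 140, true), (8, 137, true), (7, 136, true), (6, 135, true), (10, 149, true), (9, 148, true), (8, 147, true), (7, 144, true), (6, 143, true), (9, 160, true), (8, 159, true), (7, 158, true), (10, 164, true), (9, 163, true), (8, 162, true), (11, 167, true), (10, 166, true), (9, 165, true), (10, 169, true), (9, 168, true), (9, 167, true), (10, 169, true), (11, 170, true)]),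
  ([18, 4, 3, 6, 15, 16, 17], [(0, 173, true), (7, 172, true), (6, 50, true), (5, 49, true), (4, 47, true), (3, 46, true), (2, 44, true), (1, 43, true), (0, 36, true), (4, 149, true), (3, 148, true), (5, 160, true), (4, 159, true), (6, 167, true), (5, 166, true), (7, 164, true), (6, 163, true), (5, 162, true), (8, 169, true), (7, 168, true), (7, 170, true), (6, 63, true), (5, 62, true), (4, 61, true), (3, 59, true), (2, 58, true), (1, 51, true), (3, 149, true), (2, 147, true), (4, 167, true), (3, 165, true), (3, 170, true), (4, 163, true), (5, 168, true), (5, 123, true), (4, 122, true), (3, 121, true), (2, 119, true), (1, 118, true), (6, 167, true), (7, 170, true), (6, 147, true), (5, 146, true), (4, 145, true), (3, 143, true), (4, 164, true), (5, 167, true), (6, 155, true), (5, 153, true), (4, 152, true), (3, 151, true), (7, 160, true), (6, 158, true), (5, 157, true), (4, 156, true)],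
    [(1, 52, true), (5, 104, true), (4, 101, true), (3, 100, true), (7, 170, true), (6, 166, true), (7, 168, true), (5, 162, false), (4, 158, false), (5, 170, false), (5, 168, false), (6, 169, false), (2, 68, false), (3, 77, false), (4, 78, false), (5, 79, false), (0, 172, true), (6, 173, true), (13, 181, true), (19, 182, true), (21, 185, true), (5, 61, true), (4, 60, true), (3, 59, true), (2, 56, true), (1, 51, true), (6, 147, true), (5, 146, true), (4, 145, true), (3, 143, true), (4, 164, true), (5, 167, true), (6, 167, true), (5, 165, true), (5, 170, true), (4, 152, true), (3, 151, true), (5, 157, true), (4, 156, true), (5, 141, true), (4, 139, true), (3, 137, true), (2, 135, true), (4, 169, true), (5, 149, true), (4, 148, true), (3, 146, true), (2, 144, true), (6, 160, true), (5, 159, true), (4, 157, true), (7, 164, true), (6, 163, true), (5, 161, true), (6, 169, true), (5, 168, true), (5, 170, true), (4, 138, true), (3, 137, true), (2, 136, true), (5, 145, true), (4, 144, true), (3, 143, true),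 (5, 160, true), (4, 156, true), (4, 164, true), (5, 167, true), (6, 169, true), (7, 169, true), (6, 168, true), (6, 170, true)]),
  ([18, 5, 0, 6, 7], [(0, 174, true), (6, 171, true), (5, 34, true), (4, 33, true), (3, 32, true), (2, 29, true), (1, 27, true), (0, 18, true), (4, 50, true), (3, 49, true), (2, 48, true), (1, 45, true), (0, 43, true), (3, 155, true), (2, 154, true), (4, 167, true), (3, 166, true), (5, 169, true), (4, 168, true), (4, 170, true), (3, 90, true), (2, 87, true), (1, 85, true), (4, 155, true), (3, 153, true), (5, 167, true), (4, 165, true), (4, 104, true), (3, 99, true), (2, 97, true), (5, 125, true), (4, 120, true), (3, 118, true), (8, 142, true), (7, 141, true), (6, 140, true), (5, 137, true), (4, 135, true), (7, 149, true), (6, 148, true), (5, 147, true), (4, 144, true), (8, 155, true), (7, 154, true), (6, 153, true), (5, 150, true), (7, 167, true), (6, 166, true), (5, 165, true), (6, 169, true), (5, 168, true), (5, 170, true)],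
    [(1, 5, true), (5, 170, false), (5, 168, false), (6, 169, false), (5, 165, false), (6, 166, false), (7, 167, false), (4, 113, false), (5, 114, false), (6, 115, false), (2, 81, false), (3, 82, false), (0, 171, true), (11, 174, true), (17, 183, true), (21, 184, true), (23, 185, true), (10, 34, true), (9, 33, true), (8, 32, true), (7, 29, true), (6, 28, true), (5, 27, true), (4, 25, true), (3, 23, true), (2, 22, true), (1, 19, true), (0, 18, true), (5, 138, true), (4, 135, true), (4, 145, true), (6, 169, true), (7, 170, true), (6, 154, true), (5, 151, true), (7, 166, true), (8, 168, true), (8, 142, true), (7, 140, true), (6, 138, true), (5, 137, true), (4, 136, true), (9, 155, true), (8, 153, true), (7, 151, true), (6, 150, true), (8, 167, true), (7, 165, true), (7, 169, true), (8, 170, true), (7, 141, true), (6, 138, true), (5, 136, true), (4, 135, true), (6, 159, true), (5, 156, true), (5, 166, true), (7, 167, true), (6, 166, true), (5, 165, true), (6, 169, true), (5, 168, true), (5, 170, true)]),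
  ([18, 5, 3, 6, 15, 16, 17], [(0, 174, true), (6, 172, true), (5, 50, true), (4, 49, true), (3, 48, true), (2, 45, true), (1, 43, true), (4, 155, true), (3, 154, true), (5, 167, true), (4, 166, true), (6, 169, true), (5, 168, true), (5, 170, true), (4, 63, true), (3, 60, true), (2, 58, true), (5, 155, true), (4, 153, true), (6, 167, true), (5, 165, true), (5, 125, true), (4, 120, true), (3, 118, true), (8, 149, true), (7, 148, true), (6, 147, true), (5, 144, true), (9, 155, true), (8, 154, true), (7, 153, true), (6, 150, true), (8, 160, true), (7, 159, true), (6, 158, true)],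
    [(1, 53, true), (4, 170, false), (4, 168, false), (5, 169, false), (4, 165, false), (5, 166, false), (6, 167, false), (2, 81, false), (3, 90, false), (4, 91, false), (5, 92, false), (0, 172, true), (6, 174, true), (12, 183, true), (16, 184, true), (18, 185, true), (5, 30, true), (4, 29, true), (3, 28, true), (2, 25, true), (1, 20, true), (0, 19, true), (5, 145, true), (7, 169, true), (8, 170, true), (7, 154, true), (6, 151, true), (8, 159, true), (7, 156, true), (7, 141, true), (6, 137, true), (5, 136, true), (4, 135, true), (6, 154, true), (5, 150, true), (5, 166, true), (6, 168, true), (6, 142, true), (5, 140, true), (4, 136, true), (7, 160, true), (6, 158, true), (8, 167, true), (7, 165, true), (7, 170, true)]),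
  ([18, 5, 4], [(0, 174, true), (6, 173, true), (5, 65, true), (4, 64, true), (3, 63, true), (2, 60, true), (1, 58, true), (4, 155, true), (3, 153, true), (5, 167, true), (4, 165, true), (4, 169, true), (5, 170, true), (4, 141, true), (3, 137, true), (2, 135, true), (3, 148, true), (2, 144, true), (4, 159, true), (5, 163, true), (6, 168, true)],
    [(1, 67, true), (0, 173, true), (7, 174, true), (13, 182, true), (6, 34, true), (5, 33, true), (4, 31, true), (3, 30, true), (2, 28, true), (1, 27, true), (0, 20, true), (5, 160, true), (4, 159, true), (6, 164, true), (5, 163, true), (7, 167, true), (6, 166, true), (8, 169, true), (7, 168, true), (7, 170, true), (6, 140, true), (5, 139, true), (4, 138, true), (3, 136, true), (2, 135, true), (5, 167, true), (6, 155, true), (5, 153, true), (4, 152, true), (3, 151, true), (7, 167, true), (6, 165, true), (6, 169, true), (7, 170, true), (6, 168, true)]),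
  ([18, 7, 4], [(0, 175, true), (1, 173, true)],
    [(1, 69, true), (0, 173, true), (7, 175, true), (8, 184, true), (10, 185, true), (6, 34, true), (5, 33, true), (4, 31, true), (3, 30, true), (2, 28, true), (1, 27, true), (0, 20, true), (5, 160, true), (4, 159, true), (6, 164, true), (5, 163, true), (7, 167, true), (6, 166, true), (8, 169, true), (7, 168, true), (7, 170, true), (6, 165, true)]),
  ([18, 8, 0, 6, 7], [(0, 176, true), (5, 171, true), (4, 33, true), (3, 32, true), (2, 31, true), (1, 26, true), (0, 25, true), (3, 130, true), (2, 127, true), (4, 138, true), (3, 135, true), (5, 165, true), (5, 49, true), (4, 47, true), (3, 46, true), (2, 42, true), (1, 41, true), (5, 132, true), (4, 131, true), (3, 128, true), (5, 164, true), (6, 167, true), (7, 170, true), (6, 147, true), (5, 146, true), (4, 143, true), (5, 165, true), (5, 159, true), (4, 157, true), (6, 166, true), (7, 163, true), (6, 162, true), (5, 161, true), (6, 168, true), (5, 90, true), (4, 88, true), (3, 84, true), (2, 83, true),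 (6, 133, true), (5, 131, true), (4, 128, true), (6, 164, true), (7, 169, true), (8, 164, true), (7, 163, true), (6, 161, true), (7, 160, true), (6, 159, true), (8, 169, true), (7, 168, true), (7, 167, true), (8, 104, true), (7, 102, true), (6, 100, true), (5, 98, true), (4, 96, true), (3, 95, true), (5, 127, true), (7, 145, true), (9, 167, true), (10, 169, true), (11, 170, true), (10, 159, true), (9, 158, true), (8, 156, true), (9, 166, true), (8, 165, true), (9, 125, true), (8, 124, true), (7, 119, true), (6, 118, true), (5, 117, true), (4, 116, true), (4, 134, true), (5, 142, true), (6, 149, true), (7, 169, true), (8, 170, true), (8, 142, true), (7, 141, true), (6, 136, true), (5, 135, true), (7, 149, true), (6, 148, true), (5, 143, true), (6, 155, true), (5, 154, true), (7, 167, true), (6, 166, true), (8, 169, true), (7, 168, true), (7, 170, true)],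
    [(1, 8, true), (5, 101, true), (4, 100, true), (3, 97, true), (2, 95, true), (4, 135, true), (7, 115, true), (6, 114, true), (5, 112, true), (4, 111, true), (3, 106, true), (8, 164, true), (7, 163, true), (9, 169, true), (8, 168, true), (8, 170, true), (0, 171, true), (11, 176, true), (16, 179, true), (18, 181, true), (24, 182, true), (10, 125, true), (9, 124, true), (8, 123, true), (7, 120, true), (6, 119, true), (5, 118, true), (4, 116, true), (4, 142, true), (5, 149, true), (6, 155, true), (7, 167, true), (8, 169, true), (9, 167, true), (8, 166, true), (7, 165, true), (8, 170, true), (7, 168, true), (7, 170, true), (6, 129, true), (5, 128, true), (4, 127, true), (7, 155, true), (8, 169, true), (9, 164, true), (8, 163, true), (10, 167, true), (9, 166, true), (11, 169, true), (10, 168, true), (10, 160, true), (9, 158, true), (8, 157, true), (11, 167, true), (10, 165, true), (10, 142, true), (9, 139, true), (8, 138, true), (7, 137, true), (6, 136, true), (5, 135, true), (9, 170, true), (8, 146, true),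 (7, 145, true), (6, 144, true), (5, 143, true), (7, 164, true), (8, 160, true), (7, 157, true), (6, 156, true), (7, 164, true), (6, 161, true), (6, 167, true), (7, 169, true), (8, 169, true), (7, 168, true), (7, 170, true)]),
  ([18, 8, 3, 6, 15, 16, 17], [(0, 176, true), (5, 172, true), (4, 49, true), (3, 48, true), (2, 47, true), (1, 42, true), (0, 41, true), (4, 132, true), (3, 131, true), (2, 128, true), (4, 164, true), (5, 167, true), (6, 170, true), (5, 147, true), (4, 146, true), (3, 143, true), (4, 165, true), (4, 163, true), (3, 161, true), (3, 166, true), (4, 168, true), (3, 63, true), (2, 57, true), (1, 56, true), (7, 132, true), (6, 131, true), (5, 130, true), (4, 128, true), (3, 127, true), (6, 160, true), (7, 164, true), (8, 167, true), (9, 170, true), (8, 158, true), (7, 157, true), (6, 156, true), (7, 162, true), (6, 161, true), (8, 167, true), (7, 166, true), (6, 165, true), (7, 125, true), (6, 124, true), (5, 119, true), (4, 118, true), (3, 117, true), (2, 116, true), (2, 134, true),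 (3, 142, true), (4, 149, true), (5, 169, true), (6, 170, true), (6, 149, true), (5, 148, true), (4, 143, true), (5, 155, true), (4, 154, true), (6, 160, true), (5, 159, true)],
    [(1, 56, true), (7, 102, true), (6, 101, true), (5, 100, true), (4, 98, true), (3, 97, true), (2, 95, true), (4, 135, true), (7, 160, true), (6, 159, true), (5, 158, true), (8, 164, true), (7, 163, true), (6, 162, true), (9, 169, true), (8, 168, true), (8, 170, true), (7, 165, true), (6, 162, false), (7, 163, false), (8, 164, false), (5, 158, false), (6, 159, false), (7, 160, false), (4, 147, false), (5, 148, false), (6, 149, false), (6, 170, false), (5, 169, false), (3, 123, false), (4, 124, false), (5, 125, false), (0, 172, true), (6, 176, true), (11, 179, true), (13, 181, true), (19, 182, true), (5, 121, true), (4, 120, true), (3, 119, true), (2, 116, true), (2, 149, true), (3, 155, true), (4, 167, true), (5, 169, true), (6, 160, true), (5, 159, true), (4, 158, true), (7, 134, true), (6, 133, true), (5, 132, true), (4,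 130, true), (3, 129, true), (2, 128, true), (4, 155, true), (5, 169, true), (6, 160, true), (5, 159, true), (7, 167, true), (6, 166, true), (8, 170, true), (7, 168, true), (7, 164, true), (6, 162, true), (8, 167, true), (7, 165, true), (7, 169, true), (8, 160, true), (7, 159, true), (6, 157, true), (5, 156, true), (7, 167, true), (6, 166, true), (8, 142, true), (7, 141, true), (6, 140, true), (5, 139, true), (4, 137, true), (3, 136, true), (7, 167, true), (8, 169, true), (9, 170, true), (8, 148, true), (7, 147, true), (6, 146, true), (5, 144, true), (4, 143, true), (7, 159, true), (6, 158, true), (5, 157, true), (8, 163, true), (7, 162, true), (6, 161, true), (7, 166, true), (6, 165, true), (6, 168, true)]),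
  ([18, 8, 5], [(0, 176, true), (5, 174, true), (4, 33, true), (3, 32, true), (2, 31, true), (1, 26, true), (0, 25, true), (3, 130, true), (2, 127, true), (4, 138, true), (3, 135, true), (5, 165, true), (5, 141, true), (4, 139, true), (3, 138, true), (6, 169, true), (7, 155, true), (6, 154, true), (5, 152, true), (4, 151, true), (8, 167, true), (7, 166, true), (9, 169, true), (8, 168, true), (8, 170, true)],
    [(1, 83, true), (0, 174, true), (6, 176, true), (11, 179, true), (13, 182, true), (15, 184, true), (5, 125, true), (4, 124, true), (3, 123, true), (2, 120, true), (1, 118, true), (5, 166, true), (4, 165, true), (5, 169, true), (4, 168, true), (4, 170, true), (4, 134, true), (3, 129, true), (2, 127, true), (6, 164, true), (5, 163, true), (7, 167, true), (6, 166, true), (8, 169, true), (7, 168, true), (7, 160, true), (6, 158, true), (5, 157, true), (8, 167, true), (7, 165, true), (7, 169, true), (8, 170, true), (7, 166, true), (8, 168, true)])]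

/-- Certificate for 2 (equations) -/
def twoTwoCertEqs10 : List (List ℕ × List Schur.StableCert.Step × List Schur.StableCert.Step) := [
  ([18, 9, 0, 6, 7], [(0, 177, true), (3, 171, true), (2, 32, true), (1, 28, true), (0, 27, true), (4, 167, true), (3, 166, true), (5, 50, true), (4, 49, true), (3, 48, true), (2, 44, true), (1, 43, true), (4, 149, true), (3, 148, true), (5, 167, true), (4, 166, true), (6, 169, true), (5, 168, true), (5, 170, true), (4, 90, true), (3, 86, true), (2, 85, true), (5, 149, true), (4, 147, true), (6, 167, true), (5, 165, true), (5, 104, true), (4, 98, true), (3, 97, true), (8, 170, true), (7, 124, true), (6, 123, true), (5, 119, true), (4, 118, true), (8, 169, true), (9, 170, true), (8, 141, true), (7, 140, true), (6, 136, true), (5, 135, true), (7, 148, true), (6, 147, true), (5, 143, true), (6, 154, true), (5, 153, true), (7, 166, true), (6, 165, true), (6, 168, true)],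
    [(1, 9, true), (4, 104, true), (3, 100, true), (2, 96, true), (4, 156, true), (4, 115, true), (3, 107, true), (0, 171, true), (11, 177, true), (14, 182, true), (16, 185, true), (10, 142, true), (9, 141, true), (8, 140, true), (7, 137, true), (6, 136, true), (5, 135, true), (9, 149, true), (8, 148, true), (7, 147, true), (6, 144, true), (5, 143, true), (8, 167, true), (7, 166, true), (6, 165, true), (7, 169, true), (6, 168, true), (6, 170, true)]),
  ([18, 10, 3, 6, 15, 16, 17], [(0, 178, true), (6, 172, true), (5, 49, true), (4, 48, true), (3, 46, true), (2, 44, true), (1, 43, true), (0, 41, true), (4, 140, true), (3, 139, true), (2, 136, true), (5, 167, true), (6, 169, true), (7, 170, true), (6, 148, true), (5, 147, true), (4, 146, true), (3, 143, true), (5, 159, true), (4, 158, true), (3, 157, true), (6, 166, true), (5, 165, true), (5, 166, true), (6, 168, true), (5, 63, true), (4, 62, true), (3, 61, true), (2, 58, true), (1, 56, true), (7, 140, true), (6, 139, true), (5, 138, true), (4, 136, true),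 (3, 135, true), (6, 167, true), (7, 167, true), (6, 165, true), (6, 170, true), (5, 157, true), (4, 156, true), (5, 163, true), (4, 161, true), (4, 168, true), (4, 123, true), (3, 119, true), (2, 116, true), (2, 149, true), (3, 167, true), (4, 170, true), (3, 147, true), (2, 143, true), (2, 153, true), (3, 158, true)],
    [(1, 58, true), (4, 104, true), (3, 102, true), (2, 97, true), (5, 167, true), (4, 165, true), (4, 169, true), (5, 170, true), (5, 170, false), (4, 165, false), (5, 166, false), (6, 167, false), (3, 140, false), (4, 141, false), (5, 142, false), (0, 172, true), (6, 178, true), (12, 183, true), (16, 185, true), (5, 121, true), (4, 120, true), (3, 119, true), (2, 116, true), (2, 149, true), (3, 155, true), (4, 167, true), (5, 169, true), (6, 160, true), (5, 159, true), (4, 158, true), (7, 142, true), (6, 141, true), (5, 140, true), (4, 138, true), (3, 137, true), (2, 136, true), (8, 149, true), (7, 148, true), (6, 147, true), (5, 145, true), (4, 144, true), (3, 143, true), (5, 167, true),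 (6, 169, true), (7, 170, true), (6, 159, true), (5, 158, true), (4, 156, true), (5, 166, true), (4, 165, true), (4, 168, true), (3, 137, true), (2, 135, true), (5, 170, true)]),
  ([18, 12, 3, 6, 15, 16, 17], [(0, 180, true), (5, 172, true), (4, 50, true), (3, 45, true), (2, 38, true), (1, 36, true), (5, 65, true), (4, 60, true), (3, 53, true), (2, 51, true), (4, 125, true), (3, 120, true), (7, 149, true), (6, 148, true), (5, 147, true), (4, 144, true), (8, 155, true), (7, 154, true), (6, 153, true), (5, 150, true), (7, 160, true), (6, 159, true), (5, 158, true)],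
    [(1, 60, true), (2, 99, true), (3, 153, false), (4, 154, false), (5, 155, false), (0, 172, true), (6, 180, true), (5, 30, true), (4, 29, true), (3, 28, true), (2, 25, true), (1, 20, true), (0, 19, true), (5, 145, true), (7, 169, true), (8, 170, true), (7, 154, true), (6, 151, true), (8, 159, true), (7, 156, true), (7, 64, true), (6, 60, true), (5, 59, true), (4, 58, true), (3, 56, true), (2, 51, true), (7, 140, true), (6, 139, true), (5, 138, true), (4, 136, true), (3, 135, true), (6, 167, true), (7, 167, true), (6, 165, true), (6, 170, true), (5, 146, true), (4, 145, true), (3, 143, true), (4, 164, true), (5, 167, true), (6, 170, true), (5, 153, true), (4, 152, true), (3, 151, true), (7, 91, true), (6, 90, true), (5, 89, true), (4, 88, true), (3, 87, true), (2, 83, true), (6, 154, true), (5, 152, true), (7, 159, true), (6, 157, true), (8, 168, true), (7, 161, true), (8, 154, true), (7, 153, true), (6, 151, true), (5, 150, true)]),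
  ([18, 12, 8], [(0, 180, true), (5, 176, true), (4, 125, true), (3, 120, true), (7, 134, true), (6, 133, true), (5, 132, true), (4, 129, true), (6, 166, true), (8, 169, true), (7, 168, true), (7, 170, true), (6, 162, true), (7, 165, true)],
    [(1, 120, true), (0, 176, true), (5, 180, true), (10, 183, true), (14, 184, true), (4, 33, true), (3, 32, true), (2, 31, true), (1, 26, true), (0, 25, true), (3, 130, true), (2, 127, true), (4, 138, true), (3, 135, true), (5, 165, true), (5, 64, true), (4, 62, true), (3, 61, true), (2, 57, true), (1, 56, true), (7, 132, true), (6, 131, true), (5, 130, true), (4, 128, true), (3, 127, true), (6, 160, true), (7, 164, true), (8, 167, true), (9, 170, true), (8, 158, true), (7, 157, true), (6, 156, true), (7, 162, true), (6, 161, true), (8, 160, true), (7, 159, true), (6, 158, true), (9, 169, true), (8, 168, true), (8, 164, true), (7, 162, true), (9, 169, true), (10, 169, true), (9, 168, true), (9, 92, true), (8, 90, true), (7, 89, true), (6, 88, true), (5, 86, true),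 (4, 85, true), (3, 84, true), (2, 83, true), (6, 133, true), (5, 131, true), (4, 128, true), (6, 164, true), (7, 169, true), (8, 164, true), (7, 163, true), (6, 161, true), (7, 142, true), (6, 141, true), (5, 136, true), (8, 167, true), (7, 166, true), (9, 170, true), (8, 148, true), (7, 147, true), (6, 143, true), (7, 159, true), (6, 158, true), (8, 168, true), (7, 162, true), (8, 165, true), (8, 155, true), (7, 152, true), (6, 151, true), (9, 170, true), (8, 139, true), (7, 138, true), (6, 137, true), (5, 135, true), (8, 160, true), (7, 157, true), (6, 156, true), (7, 167, true), (8, 170, true), (7, 165, true)]),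
  ([19, 1, 2, 1, 2], [(0, 186, true), (6, 186, true), (5, 50, true), (4, 47, true), (3, 44, true), (2, 40, true), (1, 38, true), (0, 35, true), (4, 92, true), (3, 89, true), (2, 86, true), (1, 82, true), (0, 80, true), (3, 115, true), (2, 112, true), (1, 109, true), (0, 105, true), (2, 149, true), (1, 146, true), (0, 143, true), (1, 164, true), (0, 161, true), (0, 170, true)],
    [(2, 19, true), (1, 18, true), (1, 35, true)])]

/-- Certificate for 2 -/
def twoTwoCert : Schur.StableCert.Cert where
  rules := twoTwoCertRules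
  n := 18
  sylRules := 171
  eqs := twoTwoCertEqs0 ++ twoTwoCertEqs1 ++ twoTwoCertEqs2 ++ twoTwoCertEqs3 ++ twoTwoCertEqs4 ++ twoTwoCertEqs5 ++ twoTwoCertEqs6 ++ twoTwoCertEqs7 ++ twoTwoCertEqs8 ++ twoTwoCertEqs9 ++ twoTwoCertEqs10
  adj := [
    [],
    [],
    [0, 1],
    [],
    [],
    [1],
    [0, 0, 0, 0, 0, 0, 0, 0, 0, 0, 0, 0, 0, 0, 0, 0, 0, 0, 0, 0, 0, 1],
    [0, 0, 0, 0, 0, 0, 1],
    [],
    [0, 0, 0, 0, 0, 0, 0, 0, 0, 0, 0, 0, 0, 0, 0, 0, 0, 0, 0, 0, 0, 0, 0, 0, 0, 0, 0, 0, 0, 0, 0, 0, 0, 0, 0, 0, 0, 0, 0, 0, 0, 0, 0, 0, 0, 0, 0, 0, 0, 0, 0, 0, 0, 0, 0, 0, 0, 0, 0, 0, 0, 0, 0, 0, 0, 0, 0, 0, 0, 0, 1],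
    [0, 0, 0, 0, 0, 0, 0, 0, 0, 0, 0, 0, 0, 0, 0, 0, 0, 0, 0, 0, 0, 0, 0, 0, 0, 0, 1],
    [0, 0, 0, 0, 0, 0, 0, 0, 0, 0, 1],
    [0, 0, 0, 0, 0, 0, 0, 0, 0, 0, 0, 0, 0, 0, 0, 0, 0, 0, 0, 0, 0, 0, 0, 0, 1],
    [0, 0, 0, 0, 0, 0, 0, 0, 1, 0, 0, 0, 0, 1, 0, 0, 0, 0, 0, 0, 0, 0, 0, 0, 0, 0, 1],
    [0, 0, 0, 0, 0, 0, 0, 0, 0, 0, 0, 0, 0, 1],
    [0, 0, 0, 0, 1, 0, 0, 1, 1, 0, 0, 0, 0, 1, 0, 0, 0, 0, 0, 0, 0, 0, 0, 0, 0, 0, 1],
    [0, 0, 0, 0, 1, 0, 0, 0, 0, 1],
    [0, 0, 0, 0, 0, 0, 0, 0, 1, 1, 0, 0, 0, 1, 0, 0, 0, 0, 0, 0, 0, 0, 0, 0, 0, 0, 1]]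
  sel := [
    [],
    [],
    [(0, 1), (4, 1), (6, 1), (14, 1), (15, 1), (17, 1), (19, 1), (20, 1), (21, 1), (22, 1), (27, 1), (28, 1), (30, 1), (33, 1), (34, 1), (35, 1), (37, 1), (39, 1), (40, 1), (42, 1), (43, 1), (44, 1), (48, 1), (51, 1), (53, 1), (56, 1), (58, 1), (59, 1), (60, 1), (62, 1), (66, 1), (68, 1), (69, 1), (70, 1), (72, 1), (73, 1), (76, 1), (82, 1), (83, 1), (84, 1), (85, 1), (86, 1), (87, 1), (88, 1), (89, 1), (90, 1), (92, 1), (94, 1), (95, 1), (99, 1), (101, 1), (102, 1), (103, 1), (105, 1), (108, 1), (110, 1), (111, 1), (113, 1), (114, 1), (116, 1), (119, 1), (120, 1), (121, 1), (123, 1), (124, 1), (127, 1), (129, 1), (130, 1), (133, 1), (135, 1), (136, 1), (144, 1), (154, 1), (155, 1), (156, 1), (160, 1), (161, 1), (162, 1), (164, 1)],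
    [(0, 1), (1, 1), (4, 1), (10, 1), (11, 1), (12, 1), (14, 1), (16, 1), (17, 1), (18, 1), (19, 1), (22, 1), (24, 1), (26, 1), (27, 1), (28, 1), (29, 1), (31, 1), (32, 1), (33, 1), (35, 1), (39, 1), (40, 1), (47, 1), (48, 1), (49, 1), (52, 1), (56, 1), (59, 1), (61, 1), (65, 1), (67, 1), (68, 1), (69, 1), (71, 1), (72, 1), (74, 1), (76, 1), (79, 1), (80, 1), (81, 1), (85, 1), (88, 1), (89, 1), (91, 1), (94, 1), (97, 1), (99, 1), (101, 1), (110, 1), (111, 1), (113, 1), (115, 1), (117, 1), (118, 1), (120, 1), (125, 1), (128, 1), (129, 1), (135, 1), (136, 1), (141, 1), (148, 1), (150, 1), (153, 1), (162, 1), (164, 1)],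
    [],
    [(128, 1)],
    [],
    [],
    [],
    [],
    [],
    [(0, 1), (1, 1), (2, 1), (4, 1), (6, 1), (8, 1), (9, 1), (11, 1), (12, 1), (13, 1), (14, 1), (17, 1), (22, 1), (23, 1), (24, 1), (25, 1), (27, 1), (30, 1), (34, 1), (36, 1), (37, 1), (38, 1), (42, 1), (43, 1), (46, 1), (47, 1), (48, 1), (49, 1), (50, 1), (52, 1), (53, 1), (55, 1), (56, 1), (57, 1), (58, 1), (60, 1), (67, 1), (68, 1), (71, 1), (72, 1), (74, 1), (79, 1), (81, 1), (83, 1), (88, 1), (90, 1), (93, 1), (95, 1), (96, 1), (100, 1), (105, 1), (106, 1), (107, 1), (108, 1), (110, 1), (113, 1), (115, 1), (120, 1), (122, 1), (125, 1), (127, 1), (128, 1), (131, 1), (132, 1), (135, 1), (136, 1), (137, 1), (138, 1), (139, 1), (145, 1), (147, 1), (151, 1), (153, 1), (156, 1), (158, 1), (159, 1), (161, 1), (164, 1)],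
    [(0, 1), (6, 1), (7, 1), (8, 1), (9, 1), (11, 1), (12, 1), (15, 1), (18, 1), (24, 1), (25, 1), (26, 1), (27, 1), (28, 1), (30, 1), (32, 1), (34, 1), (35, 1), (36, 1), (40, 1), (41, 1), (43, 1), (46, 1), (48, 1), (53, 1), (56, 1), (63, 1), (65, 1), (69, 1), (70, 1), (72, 1), (74, 1), (76, 1), (77, 1), (80, 1), (85, 1), (89, 1), (105, 1), (109, 1), (116, 1), (119, 1), (120, 1), (122, 1), (124, 1), (125, 1), (127, 1), (128, 1), (129, 1), (131, 1), (133, 1), (134, 1), (136, 1), (138, 1), (139, 1), (142, 1), (145, 1), (146, 1), (148, 1), (153, 1), (154, 1), (156, 1), (161, 1), (164, 1)],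
    [],
    [(0, 1), (1, 1), (2, 1), (3, 1), (4, 1), (5, 1), (9, 1), (13, 1), (14, 1), (16, 1), (18, 1), (19, 1), (20, 1), (21, 1), (22, 1), (23, 1), (25, 1), (28, 1), (30, 1), (31, 1), (32, 1), (33, 1), (35, 1), (37, 1), (38, 1), (39, 1), (40, 1), (47, 1), (49, 1), (50, 1), (52, 1), (55, 1), (57, 1), (58, 1), (63, 1), (65, 1), (67, 1), (68, 1), (69, 1), (70, 1), (71, 1), (76, 1), (77, 1), (80, 1), (81, 1), (83, 1), (85, 1), (88, 1), (89, 1), (90, 1), (93, 1), (95, 1), (96, 1), (99, 1), (100, 1), (106, 1), (107, 1), (108, 1), (109, 1), (110, 1), (113, 1), (115, 1), (116, 1), (119, 1), (124, 1), (125, 1), (129, 1), (132, 1), (133, 1), (134, 1), (135, 1), (137, 1), (142, 1), (146, 1), (147, 1), (148, 1), (151, 1), (154, 1), (158, 1), (159, 1)],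
    [(1, 1), (2, 1), (7, 1), (12, 1), (14, 1), (16, 1), (20, 1), (21, 1), (26, 1), (30, 1), (32, 1), (33, 1), (36, 1), (46, 1), (57, 1), (67, 1), (69, 1)],
    [(1, 1), (2, 1), (3, 1), (12, 1), (13, 1), (14, 1), (20, 1), (27, 1), (36, 1)],
    [(2, 1), (3, 1), (5, 1), (13, 1), (14, 1), (16, 1), (20, 1)],
    [(1, 1), (3, 1), (6, 1), (7, 1), (9, 1), (12, 1), (14, 1), (15, 1), (18, 1), (19, 1), (23, 1), (24, 1), (25, 1), (26, 1), (28, 1), (30, 1), (34, 1), (35, 1), (36, 1), (40, 1), (41, 1), (43, 1), (46, 1), (52, 1), (53, 1), (56, 1), (57, 1), (58, 1), (63, 1), (69, 1), (70, 1), (72, 1), (74, 1), (76, 1), (77, 1), (80, 1), (85, 1), (89, 1), (105, 1), (109, 1), (116, 1), (119, 1), (122, 1), (124, 1), (127, 1), (128, 1), (129, 1), (131, 1), (133, 1), (136, 1), (138, 1), (139, 1), (142, 1), (146, 1), (148, 1), (153, 1), (154, 1), (156, 1), (161, 1), (164, 1)],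
    [(0, 1), (1, 1), (2, 1), (3, 1), (5, 1), (6, 1), (7, 1), (8, 1), (10, 1), (11, 1), (12, 1), (13, 1), (15, 1), (16, 1), (17, 1), (18, 1), (19, 1), (20, 1), (22, 1), (27, 1), (28, 1), (30, 1), (31, 1), (32, 1), (33, 1), (34, 1), (36, 1), (39, 1), (40, 1), (42, 1), (47, 1), (48, 1), (49, 1), (52, 1), (53, 1), (54, 1), (56, 1), (57, 1), (59, 1), (63, 1), (67, 1), (68, 1), (69, 1), (70, 1), (71, 1), (73, 1), (74, 1), (77, 1), (78, 1), (80, 1), (81, 1), (82, 1), (84, 1), (85, 1), (90, 1), (91, 1), (92, 1), (94, 1), (97, 1), (105, 1), (109, 1), (114, 1), (119, 1), (121, 1), (124, 1), (132, 1), (133, 1), (135, 1), (136, 1), (144, 1), (164, 1)],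
    [(1, 1), (2, 1), (3, 1), (8, 1), (9, 1), (12, 1), (13, 1), (15, 1), (18, 1), (19, 1), (20, 1), (21, 1), (27, 1), (28, 1), (29, 1), (30, 1), (31, 1), (32, 1), (33, 1), (34, 1), (36, 1), (37, 1), (38, 1), (39, 1), (40, 1), (42, 1), (44, 1), (48, 1), (51, 1), (53, 1), (56, 1), (57, 1), (58, 1), (60, 1), (61, 1), (62, 1), (64, 1), (67, 1), (69, 1), (74, 1), (78, 1), (79, 1), (80, 1), (82, 1), (83, 1), (89, 1), (90, 1), (93, 1), (94, 1), (102, 1), (103, 1), (108, 1), (109, 1), (113, 1), (123, 1), (132, 1), (139, 1), (146, 1), (155, 1), (160, 1)],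
    [],
    [(1, 1), (2, 1), (3, 1), (4, 1), (5, 1), (7, 1), (8, 1), (10, 1), (11, 1), (12, 1), (13, 1), (14, 1), (16, 1), (18, 1), (21, 1), (31, 1), (32, 1), (35, 1), (36, 1), (37, 1), (43, 1), (44, 1), (47, 1), (49, 1), (51, 1), (52, 1), (54, 1), (57, 1), (58, 1), (60, 1), (62, 1), (63, 1), (66, 1), (67, 1), (71, 1), (72, 1), (74, 1), (76, 1), (77, 1), (78, 1), (80, 1), (81, 1), (83, 1), (86, 1), (87, 1), (88, 1), (89, 1), (91, 1), (95, 1), (97, 1), (99, 1), (101, 1), (102, 1), (103, 1), (108, 1), (109, 1), (110, 1), (111, 1), (113, 1), (116, 1), (120, 1), (123, 1), (127, 1), (132, 1), (154, 1), (155, 1), (156, 1), (160, 1), (161, 1), (162, 1)],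
    [(0, 1), (2, 1), (5, 1), (6, 1), (7, 1), (8, 1), (9, 1), (11, 1), (15, 1), (16, 1), (17, 1), (18, 1), (21, 1), (23, 1), (27, 1), (29, 1), (32, 1), (33, 1), (34, 1), (35, 1), (36, 1), (39, 1), (40, 1), (42, 1), (46, 1), (49, 1), (52, 1), (56, 1), (57, 1), (58, 1), (59, 1), (60, 1), (61, 1), (64, 1), (65, 1), (69, 1), (71, 1), (72, 1), (74, 1), (78, 1), (79, 1), (80, 1), (81, 1), (84, 1), (85, 1), (86, 1), (88, 1), (89, 1), (92, 1), (99, 1), (101, 1), (103, 1), (105, 1), (109, 1), (110, 1), (111, 1), (113, 1), (114, 1), (115, 1), (118, 1), (122, 1), (125, 1), (129, 1), (132, 1), (134, 1), (135, 1), (136, 1), (138, 1), (142, 1), (144, 1), (148, 1), (154, 1), (162, 1), (164, 1)],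
    [],
    [(2, 1), (6, 1), (7, 1), (8, 1), (9, 1), (11, 1), (14, 1), (16, 1), (17, 1), (18, 1), (19, 1), (22, 1), (27, 1), (28, 1), (29, 1), (30, 1), (31, 1), (32, 1), (33, 1), (34, 1), (36, 1), (37, 1), (38, 1), (39, 1), (42, 1), (43, 1), (48, 1), (49, 1), (51, 1), (53, 1), (55, 1), (56, 1), (61, 1), (62, 1), (66, 1), (68, 1), (75, 1), (76, 1), (77, 1), (80, 1), (82, 1), (85, 1), (86, 1), (93, 1), (94, 1), (95, 1), (98, 1), (99, 1), (103, 1), (104, 1), (105, 1), (106, 1), (107, 1), (109, 1), (110, 1), (135, 1), (157, 1), (158, 1)],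
    [],
    [(0, 1), (4, 1), (5, 1), (7, 1), (8, 1), (13, 1), (14, 1), (15, 1), (18, 1), (21, 1), (23, 1), (27, 1), (30, 1), (32, 1), (33, 1), (34, 1), (35, 1), (36, 1), (48, 1), (49, 1), (51, 1), (53, 1), (57, 1), (58, 1), (60, 1), (63, 1), (64, 1), (77, 1), (85, 1), (94, 1), (97, 1), (105, 1), (109, 1)],
    [(3, 1), (7, 1), (8, 1), (10, 1), (11, 1), (12, 1), (13, 1), (15, 1), (18, 1), (21, 1), (23, 1), (27, 1), (30, 1), (33, 1), (34, 1), (35, 1), (39, 1), (41, 1), (43, 1), (44, 1), (45, 1), (48, 1), (49, 1), (54, 1), (55, 1), (57, 1), (59, 1), (60, 1), (61, 1), (63, 1), (64, 1), (65, 1), (67, 1), (69, 1), (70, 1), (71, 1), (74, 1), (77, 1), (80, 1), (81, 1), (82, 1), (84, 1), (85, 1), (88, 1), (89, 1), (92, 1), (95, 1), (99, 1), (100, 1), (101, 1), (103, 1), (104, 1), (106, 1), (108, 1), (110, 1), (111, 1), (115, 1), (119, 1), (123, 1), (124, 1), (125, 1), (129, 1), (132, 1), (133, 1), (134, 1), (137, 1), (139, 1), (142, 1), (147, 1), (148, 1), (151, 1), (154, 1), (155, 1), (156, 1), (157, 1), (159,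 1), (160, 1), (161, 1), (163, 1)],
    [(118, 1)],
    [(0, 1), (4, 1), (5, 1), (7, 1), (8, 1), (13, 1), (14, 1), (15, 1), (18, 1), (21, 1), (23, 1), (27, 1), (30, 1), (32, 1), (33, 1), (34, 1), (35, 1), (36, 1), (48, 1), (49, 1), (51, 1), (53, 1), (54, 1), (57, 1), (58, 1), (60, 1), (63, 1), (64, 1), (77, 1), (85, 1), (86, 1), (94, 1), (97, 1), (103, 1), (105, 1), (109, 1)],
    [(3, 1), (5, 1), (8, 1), (10, 1), (11, 1), (12, 1), (13, 1), (14, 1), (15, 1), (16, 1), (18, 1), (23, 1), (24, 1), (25, 1), (26, 1), (27, 1), (33, 1), (34, 1), (39, 1), (41, 1), (44, 1), (45, 1), (46, 1), (51, 1), (52, 1), (53, 1), (54, 1), (55, 1), (56, 1), (61, 1), (63, 1), (64, 1), (65, 1), (67, 1), (68, 1), (69, 1), (71, 1), (72, 1), (74, 1), (77, 1), (78, 1), (81, 1), (82, 1), (88, 1), (91, 1), (92, 1), (94, 1), (95, 1), (99, 1), (100, 1), (101, 1), (103, 1), (104, 1), (106, 1), (108, 1), (109, 1), (110, 1), (111, 1), (115, 1), (116, 1), (120, 1), (122, 1), (123, 1), (125, 1), (127, 1), (128, 1), (131, 1), (132, 1), (136,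 1), (137, 1), (138, 1), (145, 1), (146, 1), (147, 1), (151, 1), (153, 1), (155, 1), (157, 1), (159, 1), (160, 1), (163, 1), (164, 1)],
    [(64, 1)],
    [(59, 1)],
    [(3, 1), (5, 1), (14, 1), (16, 1), (19, 1)],
    [(0, 1), (1, 1), (2, 1), (3, 1), (5, 1), (6, 1), (7, 1), (8, 1), (10, 1), (11, 1), (12, 1), (13, 1), (15, 1), (16, 1), (17, 1), (18, 1), (19, 1), (20, 1), (22, 1), (27, 1), (28, 1), (30, 1), (31, 1), (32, 1), (33, 1), (34, 1), (36, 1), (39, 1), (40, 1), (42, 1), (47, 1), (48, 1), (49, 1), (52, 1), (53, 1), (54, 1), (56, 1), (57, 1), (59, 1), (63, 1), (67, 1), (68, 1), (69, 1), (70, 1), (71, 1), (73, 1), (74, 1), (77, 1), (78, 1), (80, 1), (81, 1), (82, 1), (84, 1), (85, 1), (90, 1), (91, 1), (92, 1), (94, 1), (97, 1), (105, 1), (109, 1), (114, 1), (119, 1), (121, 1), (124, 1), (129, 1), (132, 1), (133, 1), (135, 1), (136, 1), (144, 1), (164, 1)],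
    [(1, 1), (2, 1), (3, 1), (4, 1), (5, 1), (7, 1), (8, 1), (10, 1), (11, 1), (12, 1), (13, 1), (14, 1), (16, 1), (18, 1), (21, 1), (31, 1), (32, 1), (35, 1), (36, 1), (37, 1), (43, 1), (44, 1), (47, 1), (49, 1), (51, 1), (52, 1), (54, 1), (57, 1), (58, 1), (60, 1), (62, 1), (63, 1), (66, 1), (67, 1), (71, 1), (72, 1), (74, 1), (76, 1), (77, 1), (78, 1), (80, 1), (81, 1), (83, 1), (86, 1), (87, 1), (88, 1), (89, 1), (91, 1), (95, 1), (97, 1), (99, 1), (101, 1), (102, 1), (103, 1), (108, 1), (109, 1), (110, 1), (111, 1), (113, 1), (116, 1), (120, 1), (121, 1), (123, 1), (132, 1), (154, 1), (155, 1), (156, 1), (160, 1), (161, 1), (162, 1)],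
    [(0, 1), (1, 1), (9, 1), (11, 1), (14, 1), (15, 1), (16, 1), (17, 1), (23, 1), (24, 1), (27, 1), (30, 1), (33, 1), (35, 1), (38, 1), (40, 1), (43, 1), (48, 1), (51, 1), (52, 1), (54, 1), (56, 1), (57, 1), (59, 1), (60, 1), (61, 1), (67, 1), (68, 1), (69, 1), (71, 1), (72, 1), (74, 1), (78, 1), (80, 1), (84, 1), (86, 1), (89, 1), (91, 1), (94, 1), (97, 1), (103, 1), (115, 1), (116, 1), (122, 1), (124, 1), (125, 1), (126, 1), (127, 1), (128, 1), (129, 1), (131, 1), (136, 1), (138, 1), (139, 1), (142, 1), (145, 1), (146, 1), (148, 1), (153, 1), (154, 1), (156, 1), (161, 1), (164, 1)],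
    [(121, 1)],
    [(1, 1), (3, 1), (6, 1), (9, 1), (12, 1), (14, 1), (15, 1), (18, 1), (19, 1), (21, 1), (23, 1), (24, 1), (25, 1), (26, 1), (28, 1), (30, 1), (32, 1), (34, 1), (36, 1), (40, 1), (41, 1), (43, 1), (46, 1), (52, 1), (53, 1), (56, 1), (57, 1), (58, 1), (63, 1), (64, 1), (69, 1), (70, 1), (71, 1), (72, 1), (74, 1), (76, 1), (77, 1), (80, 1), (85, 1), (89, 1), (105, 1), (109, 1), (116, 1), (118, 1), (119, 1), (122, 1), (127, 1), (128, 1), (129, 1), (131, 1), (136, 1), (138, 1), (139, 1), (142, 1), (145, 1), (146, 1), (148, 1), (153, 1), (154, 1), (156, 1), (161, 1), (164, 1)],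
    [(0, 1), (3, 1), (5, 1), (6, 1), (8, 1), (9, 1), (12, 1), (14, 1), (15, 1), (16, 1), (18, 1), (19, 1), (21, 1), (24, 1), (26, 1), (27, 1), (28, 1), (30, 1), (34, 1), (35, 1), (36, 1), (38, 1), (40, 1), (41, 1), (43, 1), (46, 1), (48, 1), (53, 1), (56, 1), (59, 1), (63, 1), (64, 1), (65, 1), (69, 1), (70, 1), (72, 1), (73, 1), (74, 1), (76, 1), (77, 1), (80, 1), (85, 1), (89, 1), (105, 1), (109, 1), (115, 1), (116, 1), (119, 1), (120, 1), (122, 1), (124, 1), (125, 1), (127, 1), (128, 1), (129, 1), (131, 1), (133, 1), (134, 1), (136, 1), (138, 1), (139, 1), (142, 1), (145, 1), (146, 1), (148, 1), (153, 1), (154, 1), (156, 1), (161, 1), (164, 1)],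
    [(3, 1), (7, 1), (8, 1), (10, 1), (11, 1), (12, 1), (14, 1), (15, 1), (17, 1), (19, 1), (20, 1), (24, 1), (28, 1), (29, 1), (30, 1), (32, 1), (34, 1), (35, 1), (39, 1), (40, 1), (42, 1), (45, 1), (48, 1), (51, 1), (55, 1), (56, 1), (57, 1), (58, 1), (60, 1), (61, 1), (63, 1), (64, 1), (65, 1), (69, 1), (71, 1), (72, 1), (74, 1), (76, 1), (77, 1), (81, 1), (82, 1), (84, 1), (86, 1), (88, 1), (92, 1), (94, 1), (95, 1), (99, 1), (100, 1), (101, 1), (104, 1), (106, 1), (108, 1), (109, 1), (110, 1), (115, 1), (116, 1), (120, 1), (122, 1), (123, 1), (125, 1), (127, 1), (128, 1), (131, 1), (132, 1), (136, 1), (137, 1), (138, 1), (145, 1), (146, 1), (147, 1), (151, 1), (153, 1), (155, 1), (157, 1), (159, 1), (160, 1), (163, 1), (164, 1)],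
    [(4, 1), (5, 1), (6, 1), (7, 1), (8, 1), (9, 1), (10, 1), (11, 1), (12, 1), (13, 1), (15, 1), (17, 1), (18, 1), (19, 1), (22, 1), (24, 1), (25, 1), (28, 1), (29, 1), (30, 1), (33, 1), (34, 1), (35, 1), (37, 1), (40, 1), (45, 1), (47, 1), (49, 1), (50, 1), (51, 1), (52, 1), (54, 1), (56, 1), (58, 1), (61, 1), (64, 1), (65, 1), (67, 1), (69, 1), (70, 1), (72, 1), (74, 1), (76, 1), (78, 1), (79, 1), (80, 1), (81, 1), (82, 1), (83, 1), (86, 1), (90, 1), (91, 1), (92, 1), (93, 1), (94, 1), (96, 1), (97, 1), (100, 1), (101, 1), (104, 1), (107, 1), (109, 1), (111, 1), (113, 1), (119, 1), (120, 1), (122, 1), (123, 1), (124, 1), (127, 1), (128, 1), (129, 1), (131, 1), (133, 1), (134, 1), (135, 1), (136, 1), (138, 1), (142, 1), (145, 1), (148, 1), (153, 1), (154, 1), (155, 1), (157, 1), (158, 1), (160, 1), (163, 1), (164, 1)],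
    [(2, 1), (4, 1), (10, 1), (12, 1), (14, 1), (18, 1), (19, 1), (30, 1), (32, 1), (34, 1), (38, 1), (39, 1), (41, 1), (43, 1), (44, 1), (45, 1), (54, 1), (55, 1), (58, 1), (59, 1), (61, 1), (63, 1), (65, 1), (67, 1), (69, 1), (70, 1), (71, 1), (74, 1), (77, 1), (80, 1), (82, 1), (84, 1), (85, 1), (88, 1), (92, 1), (95, 1), (99, 1), (100, 1), (101, 1), (103, 1), (104, 1), (106, 1), (108, 1), (110, 1), (111, 1), (115, 1), (119, 1), (123, 1), (124, 1), (125, 1), (129, 1), (132, 1), (133, 1), (134, 1), (137, 1), (139, 1), (142, 1), (147, 1), (148, 1), (151, 1), (154, 1), (155, 1), (156, 1), (157, 1), (159, 1), (160, 1), (161, 1), (163, 1)],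
    [(0, 1), (3, 1), (14, 1), (19, 1), (25, 1), (27, 1), (36, 1), (38, 1), (64, 1), (81, 1)],
    [(73, 1)],
    [(0, 1), (2, 1), (4, 1), (5, 1), (6, 1), (7, 1), (8, 1), (9, 1), (10, 1), (11, 1), (12, 1), (13, 1), (16, 1), (17, 1), (18, 1), (19, 1), (24, 1), (26, 1), (28, 1), (30, 1), (32, 1), (34, 1), (35, 1), (39, 1), (44, 1), (45, 1), (48, 1), (51, 1), (53, 1), (54, 1), (55, 1), (56, 1), (57, 1), (58, 1), (60, 1), (61, 1), (63, 1), (64, 1), (69, 1), (71, 1), (72, 1), (74, 1), (76, 1), (77, 1), (81, 1), (82, 1), (84, 1), (88, 1), (92, 1), (94, 1), (95, 1), (99, 1), (100, 1), (101, 1), (103, 1), (104, 1), (106, 1), (108, 1), (109, 1), (110, 1), (111, 1), (115, 1), (116, 1), (120, 1), (122, 1), (123, 1), (125, 1), (127, 1), (128, 1), (131, 1), (132, 1), (136, 1), (137, 1), (138, 1), (145, 1), (146, 1), (147, 1), (151, 1), (153, 1), (155, 1), (157, 1), (159, 1), (160, 1), (163, 1), (164, 1)],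
    [(1, 1), (2, 1), (7, 1), (14, 1), (16, 1), (20, 1), (21, 1), (25, 1), (26, 1), (30, 1), (32, 1), (33, 1), (36, 1), (38, 1), (46, 1), (52, 1), (57, 1), (59, 1), (67, 1), (69, 1)],
    [(38, 1)],
    [(25, 1)],
    [(11, 1)],
    [(1, 1), (2, 1), (3, 1), (6, 1), (9, 1), (11, 1), (13, 1), (15, 1), (17, 1), (19, 1), (20, 1), (21, 1), (23, 1), (24, 1), (25, 1), (26, 1), (27, 1), (29, 1), (30, 1), (31, 1), (32, 1), (33, 1), (36, 1), (38, 1), (39, 1), (46, 1), (47, 1), (48, 1), (49, 1), (54, 1), (57, 1), (58, 1), (59, 1), (61, 1), (66, 1), (70, 1), (71, 1), (72, 1), (74, 1), (79, 1), (80, 1), (81, 1), (82, 1), (85, 1), (86, 1), (87, 1), (88, 1), (89, 1), (90, 1), (91, 1), (93, 1), (94, 1), (95, 1), (97, 1), (99, 1), (101, 1), (105, 1), (109, 1), (110, 1), (111, 1), (113, 1), (118, 1), (119, 1), (120, 1), (122, 1), (124, 1), (128, 1), (129, 1), (133, 1), (136, 1), (138, 1), (142, 1), (148, 1), (149, 1), (153, 1), (162, 1), (164, 1)],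
    [(0, 1), (2, 1), (4, 1), (5, 1), (6, 1), (9, 1), (10, 1), (11, 1), (12, 1), (15, 1), (17, 1), (18, 1), (21, 1), (26, 1), (27, 1), (28, 1), (30, 1), (31, 1), (34, 1), (35, 1), (39, 1), (40, 1), (44, 1), (45, 1), (48, 1), (51, 1), (52, 1), (55, 1), (57, 1), (61, 1), (62, 1), (64, 1), (68, 1), (70, 1), (72, 1), (77, 1), (78, 1), (79, 1), (80, 1), (81, 1), (84, 1), (85, 1), (86, 1), (87, 1), (89, 1), (90, 1), (91, 1), (92, 1), (93, 1), (96, 1), (97, 1), (99, 1), (100, 1), (102, 1), (103, 1), (106, 1), (107, 1), (109, 1), (110, 1), (113, 1), (119, 1), (120, 1), (124, 1), (127, 1), (128, 1), (132, 1), (133, 1), (136, 1), (137, 1), (138, 1), (139, 1), (144, 1), (147, 1), (152, 1), (153, 1), (158, 1), (159, 1), (160, 1), (161, 1), (164, 1)],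
    [(0, 1), (2, 1), (6, 1), (7, 1), (8, 1), (9, 1), (15, 1), (17, 1), (19, 1), (22, 1), (24, 1), (27, 1), (28, 1), (32, 1), (33, 1), (35, 1), (38, 1), (43, 1), (47, 1), (49, 1), (51, 1), (59, 1), (61, 1), (65, 1), (66, 1), (69, 1), (71, 1), (72, 1), (74, 1), (76, 1), (78, 1), (80, 1), (82, 1), (84, 1), (87, 1), (89, 1), (90, 1), (91, 1), (92, 1), (93, 1), (94, 1), (95, 1), (97, 1), (115, 1), (116, 1), (120, 1), (122, 1), (125, 1), (127, 1), (128, 1), (129, 1), (132, 1), (134, 1), (135, 1), (136, 1), (138, 1), (139, 1), (142, 1), (144, 1), (146, 1), (148, 1), (153, 1), (154, 1), (156, 1), (161, 1), (164, 1)],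
    [(1, 1), (3, 1), (7, 1), (9, 1), (12, 1), (13, 1), (14, 1), (15, 1), (17, 1), (19, 1), (20, 1), (21, 1), (24, 1), (25, 1), (40, 1), (43, 1), (46, 1), (48, 1), (51, 1), (52, 1), (54, 1), (56, 1), (57, 1), (59, 1), (60, 1), (61, 1), (64, 1), (68, 1), (70, 1), (72, 1), (74, 1), (78, 1), (80, 1), (84, 1), (86, 1), (89, 1), (91, 1), (94, 1), (97, 1), (103, 1), (116, 1), (119, 1), (120, 1), (124, 1), (127, 1), (128, 1), (129, 1), (131, 1), (133, 1), (134, 1), (136, 1), (138, 1), (139, 1), (142, 1), (145, 1), (146, 1), (148, 1), (153, 1), (154, 1), (156, 1), (161, 1), (164, 1)],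
    [(0, 1), (4, 1), (5, 1), (8, 1), (12, 1), (14, 1), (17, 1), (18, 1), (20, 1), (23, 1), (24, 1), (25, 1), (30, 1), (32, 1), (33, 1), (35, 1), (36, 1), (40, 1), (43, 1), (46, 1), (49, 1), (50, 1), (52, 1), (53, 1), (56, 1), (58, 1), (63, 1), (68, 1), (70, 1), (72, 1), (74, 1), (77, 1), (78, 1), (80, 1), (84, 1), (85, 1), (89, 1), (91, 1), (105, 1), (109, 1), (114, 1), (116, 1), (117, 1), (119, 1), (122, 1), (124, 1), (127, 1), (128, 1), (129, 1), (131, 1), (133, 1), (134, 1), (136, 1), (138, 1), (139, 1), (142, 1), (145, 1), (146, 1), (148, 1), (153, 1), (154, 1), (156, 1), (161, 1), (164, 1)],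
    [(4, 1), (5, 1), (7, 1), (9, 1), (10, 1), (13, 1), (15, 1), (16, 1), (23, 1), (24, 1), (26, 1), (27, 1), (28, 1), (29, 1), (30, 1), (31, 1), (32, 1), (38, 1), (40, 1), (43, 1), (44, 1), (45, 1), (48, 1), (49, 1), (54, 1), (56, 1), (57, 1), (60, 1), (62, 1), (63, 1), (65, 1), (66, 1), (68, 1), (69, 1), (70, 1), (71, 1), (74, 1), (75, 1), (77, 1), (80, 1), (81, 1), (84, 1), (86, 1), (88, 1), (89, 1), (92, 1), (93, 1), (94, 1), (98, 1), (100, 1), (101, 1), (103, 1), (105, 1), (107, 1), (108, 1), (113, 1), (114, 1), (116, 1), (118, 1), (119, 1), (120, 1), (121, 1), (123, 1), (124, 1), (129, 1), (131, 1), (132, 1), (133, 1), (134, 1), (137, 1), (142, 1), (145, 1), (146, 1), (147, 1), (148, 1), (151, 1), (155, 1), (158, 1), (159, 1), (160, 1), (163, 1), (164, 1)],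
    [(1, 1), (4, 1), (5, 1), (6, 1), (9, 1), (12, 1), (13, 1), (14, 1), (18, 1), (19, 1), (20, 1), (21, 1), (22, 1), (23, 1), (25, 1), (26, 1), (27, 1), (28, 1), (29, 1), (30, 1), (32, 1), (33, 1), (35, 1), (37, 1), (38, 1), (39, 1), (40, 1), (47, 1), (49, 1), (50, 1), (52, 1), (53, 1), (54, 1), (55, 1), (57, 1), (58, 1), (63, 1), (65, 1), (67, 1), (68, 1), (69, 1), (70, 1), (71, 1), (75, 1), (76, 1), (77, 1), (79, 1), (80, 1), (81, 1), (83, 1), (85, 1), (87, 1), (88, 1), (89, 1), (90, 1), (93, 1), (95, 1), (96, 1), (99, 1), (100, 1), (107, 1), (109, 1), (110, 1), (113, 1), (115, 1), (116, 1), (119, 1), (124, 1), (125, 1), (129, 1), (132, 1), (133, 1), (134, 1), (135, 1), (137, 1), (142, 1), (146, 1), (147, 1), (148, 1), (151, 1), (154, 1), (158, 1), (159, 1)],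
    [(1, 1), (5, 1), (7, 1), (9, 1), (12, 1), (15, 1), (17, 1), (18, 1), (19, 1), (20, 1), (22, 1), (23, 1), (24, 1), (26, 1), (27, 1), (28, 1), (30, 1), (31, 1), (32, 1), (33, 1), (37, 1), (38, 1), (40, 1), (43, 1), (46, 1), (47, 1), (48, 1), (50, 1), (51, 1), (53, 1), (55, 1), (56, 1), (58, 1), (59, 1), (60, 1), (63, 1), (64, 1), (65, 1), (67, 1), (69, 1), (71, 1), (72, 1), (74, 1), (76, 1), (77, 1), (78, 1), (79, 1), (81, 1), (83, 1), (84, 1), (85, 1), (86, 1), (88, 1), (90, 1), (91, 1), (93, 1), (94, 1), (95, 1), (96, 1), (99, 1), (100, 1), (103, 1), (106, 1), (107, 1), (108, 1), (109, 1), (110, 1), (113, 1), (115, 1), (120, 1), (122, 1), (125, 1), (127, 1), (128, 1), (131, 1), (132, 1), (135, 1), (136, 1), (137, 1), (138, 1), (139, 1), (145, 1), (147, 1), (151, 1), (153, 1), (156, 1), (158, 1), (159, 1), (161, 1), (164, 1)],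
    [(0, 1), (2, 1), (4, 1), (5, 1), (6, 1), (8, 1), (9, 1), (17, 1), (18, 1), (22, 1), (23, 1), (24, 1), (26, 1), (27, 1), (30, 1), (34, 1), (37, 1), (38, 1), (40, 1), (42, 1), (43, 1), (46, 1), (47, 1), (48, 1), (49, 1), (55, 1), (56, 1), (57, 1), (58, 1), (60, 1), (65, 1), (67, 1), (68, 1), (71, 1), (72, 1), (74, 1), (79, 1), (80, 1), (81, 1), (83, 1), (90, 1), (93, 1), (94, 1), (95, 1), (96, 1), (99, 1), (100, 1), (105, 1), (106, 1), (107, 1), (108, 1), (110, 1), (113, 1), (115, 1), (120, 1), (122, 1), (125, 1), (127, 1), (128, 1), (131, 1), (132, 1), (135, 1), (136, 1), (137, 1), (138, 1), (139, 1), (145, 1), (147, 1), (151, 1), (153, 1), (156, 1), (158, 1), (159, 1), (161, 1), (164, 1)],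
    [(3, 1), (5, 1), (7, 1), (14, 1), (16, 1), (19, 1), (21, 1), (32, 1), (59, 1), (64, 1), (113, 1)],
    [(0, 1), (3, 1), (12, 1), (17, 1), (18, 1), (21, 1), (22, 1), (23, 1), (25, 1), (27, 1), (28, 1), (32, 1), (33, 1), (35, 1), (37, 1), (38, 1), (39, 1), (41, 1), (42, 1), (47, 1), (49, 1), (50, 1), (52, 1), (53, 1), (54, 1), (55, 1), (57, 1), (58, 1), (63, 1), (65, 1), (67, 1), (68, 1), (69, 1), (70, 1), (71, 1), (76, 1), (77, 1), (79, 1), (80, 1), (81, 1), (83, 1), (88, 1), (89, 1), (90, 1), (93, 1), (95, 1), (96, 1), (99, 1), (100, 1), (106, 1), (107, 1), (108, 1), (109, 1), (110, 1), (113, 1), (115, 1), (116, 1), (119, 1), (124, 1), (125, 1), (129, 1), (132, 1), (133, 1), (134, 1), (135, 1), (137, 1), (142, 1), (146, 1), (147, 1), (148, 1), (151, 1), (154, 1), (158, 1), (159, 1)],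
    [(0, 1), (1, 1), (2, 1), (9, 1), (12, 1), (16, 1), (18, 1), (19, 1), (21, 1), (22, 1), (23, 1), (25, 1), (26, 1), (28, 1), (30, 1), (31, 1), (32, 1), (33, 1), (35, 1), (37, 1), (38, 1), (39, 1), (47, 1), (49, 1), (50, 1), (52, 1), (55, 1), (57, 1), (58, 1), (63, 1), (65, 1), (67, 1), (68, 1), (69, 1), (70, 1), (71, 1), (76, 1), (79, 1), (80, 1), (81, 1), (83, 1), (85, 1), (88, 1), (89, 1), (90, 1), (93, 1), (95, 1), (96, 1), (99, 1), (100, 1), (106, 1), (107, 1), (108, 1), (109, 1), (110, 1), (113, 1), (115, 1), (116, 1), (119, 1), (124, 1), (125, 1), (129, 1), (132, 1), (133, 1), (134, 1), (135, 1), (137, 1), (142, 1), (146, 1), (147, 1), (148, 1), (151, 1), (154, 1), (158, 1), (159, 1)],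
    [(12, 1), (50, 1), (59, 1)],
    [(0, 1), (3, 1), (4, 1), (12, 1), (14, 1), (15, 1), (18, 1), (26, 1), (27, 1), (34, 1)],
    [(1, 1), (2, 1), (3, 1), (4, 1), (5, 1), (12, 1), (13, 1), (14, 1), (15, 1), (16, 1), (18, 1)],
    [(3, 1), (5, 1), (6, 1), (7, 1), (8, 1), (9, 1), (11, 1), (12, 1), (13, 1), (16, 1), (17, 1), (24, 1), (25, 1), (26, 1), (28, 1), (29, 1), (31, 1), (35, 1), (38, 1), (39, 1), (46, 1), (47, 1), (50, 1), (51, 1), (53, 1), (56, 1), (59, 1), (60, 1), (61, 1), (63, 1), (64, 1), (66, 1), (70, 1), (71, 1), (72, 1), (74, 1), (79, 1), (81, 1), (85, 1), (87, 1), (89, 1), (91, 1), (93, 1), (94, 1), (95, 1), (97, 1), (99, 1), (101, 1), (103, 1), (110, 1), (111, 1), (113, 1), (118, 1), (119, 1), (120, 1), (122, 1), (124, 1), (128, 1), (129, 1), (133, 1), (135, 1), (138, 1), (142, 1), (143, 1), (148, 1), (149, 1), (153, 1), (162, 1), (164, 1)],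
    [(0, 1), (1, 1), (3, 1), (6, 1), (8, 1), (12, 1), (14, 1), (15, 1), (17, 1), (18, 1), (20, 1), (21, 1), (22, 1), (26, 1), (28, 1), (31, 1), (35, 1), (41, 1), (42, 1), (46, 1), (48, 1), (51, 1), (53, 1), (57, 1), (59, 1), (61, 1), (66, 1), (67, 1), (68, 1), (69, 1), (76, 1), (79, 1), (85, 1), (87, 1), (93, 1), (95, 1), (123, 1)],
    [(0, 1), (2, 1), (5, 1), (6, 1), (7, 1), (8, 1), (9, 1), (11, 1), (15, 1), (16, 1), (17, 1), (18, 1), (21, 1), (23, 1), (27, 1), (29, 1), (32, 1), (33, 1), (34, 1), (35, 1), (36, 1), (39, 1), (40, 1), (42, 1), (46, 1), (49, 1), (52, 1), (56, 1), (57, 1), (58, 1), (59, 1), (60, 1), (61, 1), (64, 1), (65, 1), (69, 1), (71, 1), (72, 1), (74, 1), (78, 1), (79, 1), (80, 1), (81, 1), (84, 1), (85, 1), (86, 1), (88, 1), (89, 1), (92, 1), (99, 1), (101, 1), (103, 1), (105, 1), (109, 1), (110, 1), (111, 1), (113, 1), (114, 1), (115, 1), (118, 1), (122, 1), (125, 1), (129, 1), (132, 1), (134, 1), (135, 1), (136, 1), (137, 1), (142, 1), (144, 1), (148, 1), (154, 1), (162, 1), (164,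 1)],
    [(0, 1), (2, 1), (4, 1), (8, 1), (9, 1), (10, 1), (11, 1), (14, 1), (15, 1), (16, 1), (17, 1), (20, 1), (26, 1), (27, 1), (30, 1), (32, 1), (35, 1), (39, 1), (40, 1), (41, 1), (43, 1), (44, 1), (45, 1), (48, 1), (49, 1), (51, 1), (54, 1), (55, 1), (59, 1), (64, 1), (65, 1), (67, 1), (69, 1), (70, 1), (71, 1), (80, 1), (81, 1), (82, 1), (84, 1), (85, 1), (88, 1), (89, 1), (92, 1), (94, 1), (95, 1), (99, 1), (100, 1), (101, 1), (103, 1), (104, 1), (105, 1), (106, 1), (108, 1), (110, 1), (111, 1), (115, 1), (116, 1), (119, 1), (123, 1), (124, 1), (125, 1), (129, 1), (132, 1), (133, 1), (134, 1), (137, 1), (139, 1), (142, 1), (147, 1), (148, 1), (151, 1), (154, 1), (155, 1), (156, 1), (157, 1), (159, 1), (160, 1), (161, 1), (163, 1)],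
    [],
    [(1, 1), (4, 1), (7, 1), (14, 1), (15, 1), (17, 1), (19, 1), (21, 1), (22, 1), (26, 1), (27, 1), (28, 1), (32, 1), (33, 1), (35, 1), (36, 1), (40, 1), (41, 1), (46, 1), (47, 1), (48, 1), (49, 1), (56, 1), (61, 1), (66, 1), (67, 1), (78, 1), (82, 1), (84, 1), (87, 1), (90, 1), (91, 1), (92, 1), (93, 1), (95, 1), (132, 1), (135, 1), (136, 1), (140, 1), (147, 1)],
    [(0, 1), (3, 1), (5, 1), (6, 1), (10, 1), (11, 1), (12, 1), (13, 1), (17, 1), (19, 1), (21, 1), (22, 1), (23, 1), (25, 1), (26, 1), (27, 1), (28, 1), (29, 1), (30, 1), (33, 1), (35, 1), (36, 1), (37, 1), (38, 1), (39, 1), (42, 1), (45, 1), (47, 1), (49, 1), (50, 1), (51, 1), (52, 1), (53, 1), (55, 1), (57, 1), (61, 1), (62, 1), (63, 1), (64, 1), (68, 1), (76, 1), (77, 1), (79, 1), (83, 1), (84, 1), (90, 1), (93, 1), (94, 1), (96, 1), (101, 1), (103, 1), (104, 1), (105, 1), (107, 1), (108, 1), (109, 1), (111, 1), (113, 1), (116, 1), (123, 1), (135, 1), (139, 1), (146, 1), (155, 1), (156, 1), (157, 1), (158, 1), (160, 1), (161, 1),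 (163, 1)],
    [(0, 1), (6, 1), (9, 1), (18, 1), (20, 1), (26, 1), (29, 1), (40, 1), (42, 1), (44, 1), (54, 1), (87, 1)],
    [(1, 1), (5, 1), (6, 1), (12, 1), (15, 1), (16, 1), (18, 1), (21, 1), (24, 1), (25, 1), (26, 1), (28, 1), (30, 1), (34, 1), (35, 1), (36, 1), (40, 1), (41, 1), (43, 1), (46, 1), (52, 1), (53, 1), (56, 1), (57, 1), (58, 1), (59, 1), (63, 1), (69, 1), (70, 1), (71, 1), (72, 1), (74, 1), (76, 1), (77, 1), (80, 1), (85, 1), (89, 1), (105, 1), (109, 1), (112, 1), (116, 1), (119, 1), (122, 1), (124, 1), (127, 1), (128, 1), (129, 1), (131, 1), (136, 1), (138, 1), (139, 1), (142, 1), (145, 1), (146, 1), (148, 1), (153, 1), (154, 1), (156, 1), (161, 1), (164, 1)],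
    [(92, 1)],
    [(0, 1), (4, 1), (5, 1), (6, 1), (9, 1), (15, 1), (16, 1), (18, 1), (20, 1), (26, 1), (29, 1), (40, 1), (42, 1), (44, 1), (62, 1)],
    [(4, 1), (10, 1), (11, 1), (13, 1), (14, 1), (15, 1), (16, 1), (17, 1), (19, 1), (20, 1), (26, 1), (30, 1), (32, 1), (36, 1), (39, 1), (40, 1), (41, 1), (43, 1), (44, 1), (45, 1), (51, 1), (54, 1), (55, 1), (58, 1), (61, 1), (64, 1), (65, 1), (67, 1), (69, 1), (70, 1), (71, 1), (80, 1), (81, 1), (82, 1), (84, 1), (85, 1), (88, 1), (89, 1), (92, 1), (94, 1), (95, 1), (99, 1), (100, 1), (101, 1), (103, 1), (104, 1), (105, 1), (106, 1), (108, 1), (110, 1), (111, 1), (115, 1), (119, 1), (123, 1), (124, 1), (125, 1), (129, 1), (132, 1), (133, 1), (134, 1), (137, 1), (139, 1), (142, 1), (147, 1), (148, 1), (151, 1), (154, 1), (155, 1), (156, 1), (157, 1), (159, 1), (160, 1), (161, 1), (163, 1)],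
    [(0, 1), (2, 1), (4, 1), (5, 1), (6, 1), (9, 1), (13, 1), (14, 1), (15, 1), (16, 1), (18, 1), (20, 1), (26, 1), (29, 1), (39, 1), (40, 1), (42, 1), (44, 1), (47, 1)],
    [(0, 1), (2, 1), (4, 1), (5, 1), (6, 1), (9, 1), (13, 1), (14, 1), (15, 1), (16, 1), (18, 1), (20, 1), (26, 1), (29, 1), (39, 1), (40, 1), (42, 1), (44, 1)],
    [(0, 1), (2, 1), (6, 1), (7, 1), (8, 1), (9, 1), (15, 1), (17, 1), (19, 1), (22, 1), (24, 1), (27, 1), (28, 1), (32, 1), (33, 1), (35, 1), (38, 1), (43, 1), (47, 1), (49, 1), (51, 1), (59, 1), (61, 1), (65, 1), (66, 1), (69, 1), (71, 1), (72, 1), (74, 1), (76, 1), (78, 1), (80, 1), (82, 1), (84, 1), (87, 1), (89, 1), (90, 1), (91, 1), (92, 1), (93, 1), (94, 1), (95, 1), (97, 1), (115, 1), (116, 1), (120, 1), (122, 1), (125, 1), (127, 1), (128, 1), (129, 1), (131, 1), (132, 1), (134, 1), (135, 1), (136, 1), (138, 1), (139, 1), (142, 1), (144, 1), (146, 1), (148, 1), (153, 1), (154, 1), (156, 1), (161, 1), (164, 1)],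
    [(1, 1), (3, 1), (6, 1), (7, 1), (9, 1), (12, 1), (14, 1), (15, 1), (18, 1), (19, 1), (23, 1), (24, 1), (25, 1), (26, 1), (28, 1), (30, 1), (34, 1), (35, 1), (36, 1), (40, 1), (41, 1), (43, 1), (46, 1), (52, 1), (53, 1), (56, 1), (57, 1), (58, 1), (63, 1), (69, 1), (70, 1), (72, 1), (74, 1), (76, 1), (77, 1), (80, 1), (85, 1), (89, 1), (105, 1), (109, 1), (116, 1), (119, 1), (122, 1), (124, 1), (127, 1), (128, 1), (129, 1), (131, 1), (133, 1), (134, 1), (136, 1), (138, 1), (139, 1), (142, 1), (145, 1), (146, 1), (148, 1), (153, 1), (154, 1), (156, 1), (161, 1), (164, 1)],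
    [(0, 1), (1, 1), (7, 1), (12, 1), (13, 1), (14, 1), (16, 1), (20, 1), (21, 1), (30, 1), (32, 1), (33, 1), (34, 1), (46, 1), (50, 1), (57, 1), (59, 1), (67, 1), (69, 1), (114, 1)],
    [(0, 1), (9, 1), (11, 1), (12, 1), (14, 1), (15, 1), (16, 1), (19, 1), (20, 1), (22, 1), (26, 1), (29, 1), (30, 1), (31, 1), (32, 1), (33, 1), (34, 1), (37, 1), (38, 1), (41, 1), (42, 1), (44, 1), (47, 1), (48, 1), (49, 1), (51, 1), (53, 1), (54, 1), (55, 1), (57, 1), (60, 1), (64, 1), (67, 1), (70, 1), (71, 1), (74, 1), (77, 1), (78, 1), (81, 1), (83, 1), (84, 1), (85, 1), (86, 1), (88, 1), (89, 1), (90, 1), (91, 1), (93, 1), (94, 1), (95, 1), (96, 1), (100, 1), (103, 1), (105, 1), (106, 1), (107, 1), (108, 1), (113, 1), (115, 1), (116, 1), (119, 1), (124, 1), (125, 1), (129, 1), (132, 1), (133, 1), (134, 1), (135, 1), (137, 1), (142, 1), (146, 1), (147, 1), (148, 1), (151, 1), (154, 1), (158, 1), (159, 1)],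
    [(0, 1), (6, 1), (12, 1), (15, 1), (17, 1), (18, 1), (19, 1), (20, 1), (29, 1), (30, 1), (31, 1), (34, 1), (41, 1), (44, 1), (51, 1), (53, 1), (54, 1), (79, 1), (85, 1), (98, 1)],
    [(3, 1), (4, 1), (8, 1), (9, 1), (13, 1), (17, 1), (20, 1), (21, 1), (22, 1), (24, 1), (26, 1), (28, 1), (31, 1), (34, 1), (35, 1), (36, 1), (37, 1), (38, 1), (40, 1), (43, 1), (46, 1), (47, 1), (49, 1), (50, 1), (55, 1), (56, 1), (57, 1), (65, 1), (67, 1), (69, 1), (71, 1), (72, 1), (74, 1), (76, 1), (78, 1), (79, 1), (81, 1), (83, 1), (84, 1), (88, 1), (90, 1), (91, 1), (93, 1), (94, 1), (95, 1), (96, 1), (99, 1), (100, 1), (105, 1), (106, 1), (107, 1), (108, 1), (110, 1), (113, 1), (115, 1), (120, 1), (122, 1), (125, 1), (127, 1), (128, 1), (131, 1), (132, 1), (135, 1), (136, 1), (137, 1), (138, 1), (139, 1), (145, 1), (147, 1), (151, 1), (153, 1), (156, 1), (158, 1), (159, 1), (161, 1), (164, 1)],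
    [(2, 1), (4, 1), (7, 1), (12, 1), (14, 1), (15, 1), (16, 1), (18, 1), (21, 1), (26, 1), (30, 1), (32, 1), (33, 1), (36, 1), (46, 1), (50, 1), (57, 1), (59, 1), (67, 1), (69, 1), (80, 1)],
    [(72, 1)],
    [(4, 1), (7, 1), (8, 1), (13, 1), (15, 1), (16, 1), (17, 1), (22, 1), (25, 1), (27, 1), (28, 1), (34, 1), (36, 1), (37, 1), (38, 1), (39, 1), (41, 1), (42, 1), (47, 1), (48, 1), (50, 1), (51, 1), (52, 1), (55, 1), (60, 1), (65, 1), (67, 1), (68, 1), (69, 1), (70, 1), (71, 1), (76, 1), (79, 1), (80, 1), (81, 1), (83, 1), (85, 1), (88, 1), (89, 1), (90, 1), (93, 1), (95, 1), (96, 1), (99, 1), (100, 1), (106, 1), (107, 1), (108, 1), (109, 1), (110, 1), (113, 1), (115, 1), (116, 1), (119, 1), (124, 1), (125, 1), (129, 1), (132, 1), (133, 1), (134, 1), (135, 1), (137, 1), (142, 1), (146, 1), (147, 1), (148, 1), (151, 1), (154, 1), (158, 1), (159, 1)],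
    [(0, 1), (1, 1), (2, 1), (4, 1), (13, 1), (15, 1), (18, 1), (20, 1), (26, 1), (34, 1), (36, 1), (51, 1)],
    [(37, 1)],
    [(24, 1)],
    [(10, 1)],
    [(0, 1), (2, 1), (5, 1), (6, 1), (7, 1), (8, 1), (9, 1), (11, 1), (15, 1), (16, 1), (17, 1), (18, 1), (21, 1), (23, 1), (27, 1), (29, 1), (32, 1), (33, 1), (34, 1), (35, 1), (36, 1), (39, 1), (40, 1), (42, 1), (46, 1), (49, 1), (52, 1), (56, 1), (57, 1), (58, 1), (59, 1), (60, 1), (61, 1), (64, 1), (65, 1), (69, 1), (71, 1), (72, 1), (74, 1), (78, 1), (79, 1), (80, 1), (81, 1), (84, 1), (85, 1), (86, 1), (88, 1), (89, 1), (92, 1), (99, 1), (101, 1), (103, 1), (105, 1), (109, 1), (110, 1), (111, 1), (113, 1), (114, 1), (115, 1), (118, 1), (122, 1), (125, 1), (129, 1), (132, 1), (134, 1), (135, 1), (136, 1), (142, 1), (144, 1), (148, 1), (154, 1), (162, 1), (164, 1)],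
    [(1, 1), (3, 1), (6, 1), (7, 1), (9, 1), (12, 1), (14, 1), (15, 1), (18, 1), (19, 1), (23, 1), (24, 1), (25, 1), (26, 1), (28, 1), (30, 1), (34, 1), (35, 1), (36, 1), (40, 1), (41, 1), (43, 1), (46, 1), (52, 1), (53, 1), (56, 1), (57, 1), (58, 1), (63, 1), (69, 1), (70, 1), (72, 1), (74, 1), (76, 1), (77, 1), (80, 1), (85, 1), (89, 1), (105, 1), (109, 1), (116, 1), (119, 1), (122, 1), (124, 1), (127, 1), (128, 1), (129, 1), (131, 1), (136, 1), (138, 1), (139, 1), (142, 1), (145, 1), (146, 1), (148, 1), (153, 1), (154, 1), (156, 1), (161, 1), (164, 1)],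
    [(54, 1), (55, 1), (61, 1), (92, 1), (96, 1), (107, 1)],
    [(0, 1), (2, 1), (4, 1), (6, 1), (10, 1), (11, 1), (12, 1), (13, 1), (15, 1), (17, 1), (18, 1), (19, 1), (21, 1), (22, 1), (23, 1), (25, 1), (26, 1), (28, 1), (29, 1), (33, 1), (34, 1), (35, 1), (36, 1), (37, 1), (38, 1), (39, 1), (42, 1), (45, 1), (49, 1), (50, 1), (52, 1), (55, 1), (57, 1), (61, 1), (62, 1), (68, 1), (76, 1), (79, 1), (83, 1), (84, 1), (85, 1), (90, 1), (92, 1), (93, 1), (97, 1), (101, 1), (104, 1), (107, 1), (108, 1), (111, 1), (113, 1), (116, 1), (123, 1), (132, 1), (135, 1), (139, 1), (146, 1), (155, 1), (156, 1), (157, 1), (158, 1), (160, 1), (161, 1), (163, 1)],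
    [(0, 1), (4, 1), (5, 1), (7, 1), (8, 1), (13, 1), (14, 1), (15, 1), (18, 1), (21, 1), (23, 1), (27, 1), (30, 1), (32, 1), (33, 1), (34, 1), (35, 1), (36, 1), (48, 1), (49, 1), (51, 1), (53, 1), (54, 1), (57, 1), (58, 1), (60, 1), (61, 1), (63, 1), (64, 1), (77, 1), (85, 1), (94, 1), (97, 1), (103, 1), (105, 1), (109, 1)],
    [(4, 1), (8, 1), (9, 1), (12, 1), (14, 1), (16, 1), (17, 1), (18, 1), (20, 1), (24, 1), (25, 1), (26, 1), (27, 1), (30, 1), (32, 1), (33, 1), (34, 1), (35, 1), (36, 1), (40, 1), (43, 1), (46, 1), (47, 1), (49, 1), (52, 1), (53, 1), (56, 1), (58, 1), (59, 1), (63, 1), (68, 1), (70, 1), (72, 1), (74, 1), (77, 1), (80, 1), (84, 1), (85, 1), (89, 1), (91, 1), (105, 1), (109, 1), (116, 1), (119, 1), (120, 1), (122, 1), (124, 1), (127, 1), (128, 1), (129, 1), (131, 1), (133, 1), (134, 1), (136, 1), (138, 1), (139, 1), (142, 1), (145, 1), (146, 1), (148, 1), (153, 1), (154, 1), (156, 1), (161, 1), (164, 1)],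
    [(71, 1)],
    [(61, 1)],
    [(0, 1), (1, 1), (2, 1), (3, 1), (4, 1), (5, 1), (7, 1), (8, 1), (10, 1), (11, 1), (12, 1), (15, 1), (17, 1), (20, 1), (21, 1), (23, 1), (26, 1), (30, 1), (33, 1), (39, 1), (40, 1), (41, 1), (43, 1), (44, 1), (45, 1), (48, 1), (51, 1), (54, 1), (55, 1), (57, 1), (59, 1), (60, 1), (61, 1), (64, 1), (65, 1), (67, 1), (69, 1), (70, 1), (71, 1), (80, 1), (81, 1), (82, 1), (84, 1), (85, 1), (88, 1), (89, 1), (92, 1), (94, 1), (95, 1), (99, 1), (100, 1), (101, 1), (103, 1), (104, 1), (105, 1), (106, 1), (108, 1), (110, 1), (111, 1), (115, 1), (119, 1), (123, 1), (124, 1), (125, 1), (129, 1), (132, 1), (133, 1), (134, 1), (137, 1), (139, 1), (142, 1), (147, 1), (148, 1), (151, 1), (154, 1), (155, 1), (156, 1), (157, 1), (159, 1), (160, 1), (161, 1), (163, 1)],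
    [(3, 1), (5, 1), (9, 1), (14, 1), (16, 1), (19, 1), (23, 1), (35, 1), (59, 1)],
    [(23, 1)],
    [(9, 1)],
    [(1, 1), (3, 1), (6, 1), (7, 1), (9, 1), (12, 1), (14, 1), (15, 1), (18, 1), (19, 1), (23, 1), (24, 1), (25, 1), (26, 1), (28, 1), (30, 1), (34, 1), (35, 1), (36, 1), (40, 1), (41, 1), (43, 1), (46, 1), (52, 1), (53, 1), (56, 1), (57, 1), (58, 1), (63, 1), (69, 1), (70, 1), (72, 1), (74, 1), (76, 1), (77, 1), (80, 1), (85, 1), (89, 1), (105, 1), (109, 1), (116, 1), (119, 1), (122, 1), (124, 1), (127, 1), (128, 1), (129, 1), (131, 1), (133, 1), (136, 1), (138, 1), (139, 1), (142, 1), (145, 1), (146, 1), (148, 1), (153, 1), (154, 1), (156, 1), (161, 1), (164, 1)],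
    [(0, 1), (4, 1), (5, 1), (7, 1), (8, 1), (13, 1), (14, 1), (15, 1), (18, 1), (21, 1), (23, 1), (27, 1), (30, 1), (32, 1), (33, 1), (34, 1), (35, 1), (36, 1), (48, 1), (49, 1), (51, 1), (57, 1), (60, 1), (63, 1), (64, 1), (77, 1), (85, 1), (94, 1), (97, 1), (103, 1), (104, 1), (105, 1), (109, 1)],
    [(2, 1), (3, 1), (8, 1), (9, 1), (61, 1), (93, 1)],
    [(0, 1), (4, 1), (6, 1), (8, 1), (12, 1), (13, 1), (14, 1), (16, 1), (18, 1), (20, 1), (21, 1), (23, 1), (24, 1), (25, 1), (27, 1), (32, 1), (34, 1), (36, 1), (40, 1), (41, 1), (43, 1), (47, 1), (52, 1), (53, 1), (56, 1), (58, 1), (59, 1), (63, 1), (67, 1), (70, 1), (72, 1), (74, 1), (77, 1), (78, 1), (80, 1), (84, 1), (85, 1), (89, 1), (105, 1), (109, 1), (116, 1), (119, 1), (120, 1), (122, 1), (124, 1), (127, 1), (128, 1), (129, 1), (131, 1), (133, 1), (134, 1), (136, 1), (138, 1), (139, 1), (142, 1), (145, 1), (146, 1), (148, 1), (153, 1), (154, 1), (156, 1), (161, 1), (164, 1)],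
    [(0, 1), (2, 1), (3, 1), (7, 1), (12, 1), (16, 1), (19, 1), (20, 1), (21, 1), (22, 1), (23, 1), (26, 1), (27, 1), (30, 1), (32, 1), (33, 1), (35, 1), (46, 1), (57, 1), (59, 1), (67, 1), (69, 1), (76, 1)],
    [(70, 1)],
    [(0, 1), (2, 1), (3, 1), (4, 1), (10, 1), (11, 1), (15, 1), (16, 1), (17, 1), (20, 1), (22, 1), (23, 1), (26, 1), (27, 1), (30, 1), (32, 1), (35, 1), (39, 1), (40, 1), (41, 1), (43, 1), (44, 1), (45, 1), (48, 1), (49, 1), (51, 1), (54, 1), (55, 1), (59, 1), (61, 1), (64, 1), (65, 1), (67, 1), (69, 1), (70, 1), (71, 1), (80, 1), (81, 1), (82, 1), (84, 1), (85, 1), (88, 1), (89, 1), (92, 1), (94, 1), (95, 1), (99, 1), (100, 1), (101, 1), (103, 1), (104, 1), (105, 1), (106, 1), (108, 1), (110, 1), (111, 1), (115, 1), (119, 1), (123, 1), (124, 1), (125, 1), (129, 1), (132, 1), (133, 1), (134, 1), (137, 1), (139, 1), (142, 1), (147, 1), (148, 1), (151, 1), (154, 1), (155, 1), (156, 1), (157, 1), (159, 1), (160, 1), (161, 1), (163, 1)],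
    [(0, 1), (1, 1), (5, 1), (8, 1), (12, 1), (16, 1), (23, 1), (27, 1), (36, 1), (48, 1)],
    [(33, 1)],
    [(22, 1)],
    [(8, 1)],
    [(0, 1), (1, 1), (3, 1), (5, 1), (10, 1), (11, 1), (13, 1), (14, 1), (16, 1), (18, 1), (20, 1), (22, 1), (25, 1), (28, 1), (29, 1), (30, 1), (33, 1), (37, 1), (38, 1), (41, 1), (43, 1), (44, 1), (48, 1), (49, 1), (50, 1), (51, 1), (52, 1), (53, 1), (57, 1), (58, 1), (59, 1), (60, 1), (61, 1), (63, 1), (64, 1), (69, 1), (74, 1), (77, 1), (78, 1), (79, 1), (91, 1), (93, 1), (94, 1), (96, 1), (101, 1), (103, 1), (104, 1), (105, 1), (107, 1), (109, 1), (111, 1), (113, 1), (116, 1), (123, 1), (132, 1), (135, 1), (136, 1), (139, 1), (146, 1), (148, 1), (155, 1), (156, 1), (157, 1), (158, 1), (160, 1), (161, 1), (163, 1)],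
    [(0, 1), (1, 1), (2, 1), (5, 1), (6, 1), (7, 1), (9, 1), (13, 1), (16, 1), (17, 1), (18, 1), (19, 1), (20, 1), (21, 1), (22, 1), (27, 1), (28, 1), (29, 1), (32, 1), (33, 1), (35, 1), (36, 1), (39, 1), (41, 1), (42, 1), (44, 1), (46, 1), (47, 1), (48, 1), (49, 1), (56, 1), (61, 1), (66, 1), (67, 1), (78, 1), (82, 1), (84, 1), (87, 1), (90, 1), (91, 1), (92, 1), (93, 1), (95, 1), (132, 1), (135, 1), (136, 1), (139, 1), (147, 1)],
    [(2, 1), (3, 1), (4, 1), (5, 1), (15, 1), (18, 1), (27, 1), (30, 1), (34, 1), (47, 1), (51, 1), (53, 1), (54, 1), (55, 1), (63, 1), (64, 1), (77, 1), (85, 1), (90, 1), (92, 1), (94, 1), (96, 1), (97, 1), (102, 1), (103, 1), (105, 1), (109, 1), (132, 1)],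
    [(2, 1), (3, 1), (4, 1), (6, 1), (9, 1), (13, 1), (15, 1), (16, 1), (17, 1), (18, 1), (19, 1), (20, 1), (26, 1), (29, 1), (39, 1), (40, 1), (42, 1), (44, 1), (53, 1), (54, 1), (74, 1), (83, 1)],
    [(3, 1), (5, 1), (10, 1), (11, 1), (12, 1), (14, 1), (17, 1), (19, 1), (20, 1), (24, 1), (29, 1), (30, 1), (31, 1), (32, 1), (35, 1), (37, 1), (38, 1), (40, 1), (42, 1), (45, 1), (49, 1), (50, 1), (53, 1), (54, 1), (56, 1), (57, 1), (58, 1), (59, 1), (60, 1), (61, 1), (63, 1), (64, 1), (66, 1), (68, 1), (70, 1), (72, 1), (74, 1), (76, 1), (77, 1), (78, 1), (79, 1), (80, 1), (82, 1), (83, 1), (85, 1), (89, 1), (90, 1), (92, 1), (93, 1), (96, 1), (103, 1), (104, 1), (105, 1), (107, 1), (111, 1), (113, 1), (119, 1), (120, 1), (122, 1), (123, 1), (124, 1), (127, 1), (128, 1), (129, 1), (131, 1), (133, 1), (134, 1), (135, 1), (136, 1), (138, 1), (142, 1), (145, 1), (148, 1), (153, 1), (154, 1), (155, 1), (157, 1), (158, 1), (160, 1), (163, 1), (164, 1)],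
    [(2, 1), (3, 1), (4, 1), (5, 1), (15, 1), (18, 1), (27, 1), (30, 1), (34, 1), (47, 1), (51, 1), (53, 1), (55, 1), (63, 1), (64, 1), (77, 1), (82, 1), (85, 1), (92, 1), (94, 1), (96, 1), (97, 1), (102, 1), (103, 1), (105, 1), (109, 1), (132, 1)],
    [(1, 1), (4, 1), (9, 1), (10, 1), (11, 1), (12, 1), (14, 1), (15, 1), (16, 1), (17, 1), (18, 1), (20, 1), (21, 1), (22, 1), (23, 1), (25, 1), (27, 1), (28, 1), (31, 1), (33, 1), (35, 1), (36, 1), (37, 1), (38, 1), (39, 1), (40, 1), (41, 1), (43, 1), (44, 1), (45, 1), (47, 1), (49, 1), (50, 1), (51, 1), (52, 1), (53, 1), (56, 1), (57, 1), (61, 1), (63, 1), (64, 1), (68, 1), (76, 1), (77, 1), (79, 1), (82, 1), (83, 1), (84, 1), (90, 1), (92, 1), (93, 1), (94, 1), (96, 1), (101, 1), (103, 1), (104, 1), (105, 1), (107, 1), (109, 1), (111, 1), (113, 1), (116, 1), (123, 1), (135, 1), (139, 1), (146, 1), (155, 1), (156, 1), (157, 1), (158, 1), (160, 1), (161, 1), (163, 1)],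
    [(0, 1), (1, 1), (2, 1), (3, 1), (6, 1), (10, 1), (11, 1), (12, 1), (13, 1), (14, 1), (16, 1), (17, 1), (21, 1), (22, 1), (23, 1), (25, 1), (26, 1), (28, 1), (29, 1), (30, 1), (31, 1), (33, 1), (35, 1), (36, 1), (37, 1), (38, 1), (39, 1), (41, 1), (42, 1), (43, 1), (47, 1), (49, 1), (50, 1), (51, 1), (52, 1), (53, 1), (54, 1), (57, 1), (61, 1), (63, 1), (64, 1), (68, 1), (76, 1), (77, 1), (79, 1), (82, 1), (83, 1), (84, 1), (90, 1), (92, 1), (93, 1), (94, 1), (96, 1), (101, 1), (103, 1), (104, 1), (105, 1), (107, 1), (109, 1), (111, 1), (113, 1), (116, 1), (123, 1), (135, 1), (139, 1), (146, 1), (155, 1), (156, 1), (157, 1), (158, 1), (160, 1), (161, 1), (163, 1)],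
    [(1, 1), (4, 1), (6, 1), (10, 1), (11, 1), (12, 1), (14, 1), (15, 1), (17, 1), (18, 1), (20, 1), (21, 1), (22, 1), (23, 1), (25, 1), (27, 1), (28, 1), (29, 1), (31, 1), (33, 1), (35, 1), (36, 1), (37, 1), (38, 1), (39, 1), (40, 1), (41, 1), (42, 1), (43, 1), (44, 1), (45, 1), (47, 1), (49, 1), (50, 1), (51, 1), (52, 1), (53, 1), (54, 1), (57, 1), (61, 1), (63, 1), (64, 1), (68, 1), (76, 1), (77, 1), (79, 1), (82, 1), (83, 1), (84, 1), (90, 1), (92, 1), (93, 1), (94, 1), (96, 1), (101, 1), (103, 1), (104, 1), (105, 1), (107, 1), (109, 1), (111, 1), (113, 1), (116, 1), (123, 1), (135, 1), (139, 1), (146, 1), (155, 1), (156, 1), (157, 1), (158, 1), (160, 1), (161, 1), (163, 1)],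
    [(6, 1), (29, 1)],
    [(1, 1), (4, 1), (7, 1), (14, 1), (15, 1), (17, 1), (19, 1), (21, 1), (22, 1), (26, 1), (27, 1), (28, 1), (32, 1), (33, 1), (35, 1), (36, 1), (40, 1), (41, 1), (46, 1), (47, 1), (48, 1), (49, 1), (56, 1), (61, 1), (66, 1), (67, 1), (78, 1), (82, 1), (84, 1), (87, 1), (90, 1), (91, 1), (92, 1), (93, 1), (95, 1), (132, 1), (135, 1), (136, 1), (147, 1)],
    [(2, 1), (3, 1), (4, 1), (5, 1), (15, 1), (18, 1), (27, 1), (30, 1), (34, 1), (47, 1), (51, 1), (53, 1), (63, 1), (64, 1), (77, 1), (85, 1), (92, 1), (94, 1), (96, 1), (97, 1), (102, 1), (103, 1), (105, 1), (109, 1), (132, 1)],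
    [(0, 1), (3, 1), (5, 1), (6, 1), (9, 1), (10, 1), (11, 1), (12, 1), (13, 1), (14, 1), (19, 1), (21, 1), (22, 1), (23, 1), (25, 1), (26, 1), (27, 1), (28, 1), (29, 1), (30, 1), (33, 1), (35, 1), (36, 1), (37, 1), (38, 1), (45, 1), (47, 1), (49, 1), (50, 1), (51, 1), (52, 1), (53, 1), (56, 1), (57, 1), (61, 1), (63, 1), (64, 1), (68, 1), (75, 1), (76, 1), (77, 1), (79, 1), (82, 1), (83, 1), (84, 1), (90, 1), (92, 1), (93, 1), (94, 1), (96, 1), (101, 1), (103, 1), (104, 1), (105, 1), (107, 1), (109, 1), (111, 1), (113, 1), (116, 1), (123, 1), (135, 1), (139, 1), (146, 1), (155, 1), (156, 1), (157, 1), (158, 1), (160, 1), (161, 1), (163, 1)],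
    [(3, 1), (6, 1), (9, 1), (13, 1), (14, 1), (16, 1), (17, 1), (18, 1), (21, 1), (22, 1), (23, 1), (25, 1), (26, 1), (27, 1), (28, 1), (31, 1), (32, 1), (33, 1), (35, 1), (37, 1), (38, 1), (41, 1), (49, 1), (50, 1), (52, 1), (53, 1), (55, 1), (57, 1), (58, 1), (63, 1), (65, 1), (67, 1), (69, 1), (70, 1), (71, 1), (76, 1), (77, 1), (79, 1), (80, 1), (81, 1), (83, 1), (85, 1), (88, 1), (89, 1), (90, 1), (93, 1), (95, 1), (96, 1), (99, 1), (100, 1), (106, 1), (107, 1), (108, 1), (109, 1), (110, 1), (113, 1), (115, 1), (116, 1), (119, 1), (124, 1), (125, 1), (129, 1), (132, 1), (133, 1), (134, 1), (135, 1), (137, 1), (142, 1), (146, 1), (147, 1), (148, 1), (151, 1), (154, 1), (158, 1), (159, 1)],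
    [(55, 1)],
    [(0, 1), (2, 1), (4, 1), (5, 1), (9, 1), (13, 1), (14, 1), (15, 1), (16, 1), (18, 1), (20, 1), (26, 1), (29, 1), (39, 1), (40, 1), (42, 1), (43, 1), (44, 1)],
    [(3, 1), (4, 1), (9, 1), (10, 1), (11, 1), (12, 1), (15, 1), (17, 1), (18, 1), (19, 1), (20, 1), (21, 1), (22, 1), (23, 1), (25, 1), (27, 1), (28, 1), (30, 1), (31, 1), (33, 1), (35, 1), (36, 1), (37, 1), (38, 1), (39, 1), (40, 1), (43, 1), (44, 1), (45, 1), (47, 1), (49, 1), (50, 1), (51, 1), (52, 1), (53, 1), (54, 1), (57, 1), (61, 1), (63, 1), (64, 1), (68, 1), (76, 1), (77, 1), (79, 1), (82, 1), (83, 1), (84, 1), (90, 1), (92, 1), (93, 1), (94, 1), (96, 1), (101, 1), (103, 1), (104, 1), (105, 1), (107, 1), (109, 1), (111, 1), (113, 1), (116, 1), (123, 1), (135, 1), (139, 1), (146, 1), (155, 1), (156, 1), (157, 1), (158, 1), (160, 1), (161, 1), (163, 1)],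
    [(0, 1), (2, 1), (4, 1), (5, 1), (9, 1), (13, 1), (14, 1), (15, 1), (16, 1), (17, 1), (18, 1), (20, 1), (26, 1), (29, 1), (39, 1), (40, 1), (42, 1), (44, 1)],
    [(6, 1)],
    [(0, 1), (6, 1), (7, 1), (9, 1), (19, 1), (20, 1), (22, 1), (23, 1), (26, 1), (28, 1), (30, 1), (32, 1), (33, 1), (40, 1), (46, 1), (47, 1), (49, 1), (56, 1), (58, 1), (59, 1), (60, 1), (61, 1), (66, 1), (67, 1), (68, 1), (69, 1), (76, 1), (82, 1), (87, 1), (90, 1), (92, 1), (93, 1), (95, 1), (132, 1), (135, 1)],
    [(2, 1), (3, 1), (4, 1), (6, 1), (9, 1), (13, 1), (15, 1), (16, 1), (17, 1), (18, 1), (19, 1), (20, 1), (26, 1), (29, 1), (39, 1), (40, 1), (42, 1), (44, 1), (74, 1)],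
    [(16, 1), (59, 1), (67, 1)],
    [(54, 1)],
    [(3, 1), (4, 1), (5, 1), (10, 1), (11, 1), (12, 1), (15, 1), (16, 1), (18, 1), (19, 1), (20, 1), (21, 1), (22, 1), (23, 1), (25, 1), (27, 1), (28, 1), (30, 1), (33, 1), (35, 1), (36, 1), (37, 1), (38, 1), (39, 1), (40, 1), (42, 1), (43, 1), (44, 1), (45, 1), (47, 1), (49, 1), (50, 1), (51, 1), (52, 1), (53, 1), (54, 1), (57, 1), (61, 1), (63, 1), (64, 1), (68, 1), (76, 1), (77, 1), (79, 1), (82, 1), (83, 1), (84, 1), (90, 1), (92, 1), (93, 1), (94, 1), (96, 1), (101, 1), (103, 1), (104, 1), (105, 1), (107, 1), (109, 1), (111, 1), (113, 1), (116, 1), (123, 1), (135, 1), (139, 1), (146, 1), (155, 1), (156, 1), (157, 1), (158, 1), (160, 1), (161, 1), (163, 1)],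
    [(3, 1), (14, 1), (16, 1), (19, 1), (30, 1)],
    [(16, 1)],
    [(5, 1)],
    [(2, 1), (3, 1), (4, 1), (6, 1), (9, 1), (13, 1), (15, 1), (16, 1), (17, 1), (18, 1), (19, 1), (20, 1), (26, 1), (29, 1), (39, 1), (40, 1), (42, 1), (44, 1), (74, 1), (136, 1)],
    [(66, 1)],
    [(0, 1), (1, 1), (3, 1), (4, 1), (9, 1), (10, 1), (11, 1), (12, 1), (13, 1), (16, 1), (17, 1), (18, 1), (21, 1), (22, 1), (23, 1), (25, 1), (27, 1), (28, 1), (31, 1), (33, 1), (35, 1), (36, 1), (37, 1), (38, 1), (39, 1), (41, 1), (43, 1), (44, 1), (45, 1), (47, 1), (49, 1), (50, 1), (51, 1), (52, 1), (54, 1), (57, 1), (61, 1), (63, 1), (64, 1), (68, 1), (76, 1), (77, 1), (79, 1), (82, 1), (83, 1), (84, 1), (90, 1), (92, 1), (93, 1), (94, 1), (96, 1), (101, 1), (103, 1), (104, 1), (105, 1), (107, 1), (109, 1), (111, 1), (113, 1), (116, 1), (123, 1), (135, 1), (139, 1), (146, 1), (155, 1), (156, 1), (157, 1), (158, 1), (160, 1), (161, 1), (163, 1)],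
    [(0, 1), (2, 1), (3, 1), (4, 1), (5, 1), (13, 1), (14, 1), (15, 1), (20, 1), (40, 1)],
    [(28, 1)],
    [(15, 1)],
    [(4, 1)],
    [(0, 1), (1, 1), (5, 1), (8, 1), (16, 1), (23, 1), (25, 1), (27, 1), (32, 1), (35, 1), (38, 1), (48, 1), (52, 1), (57, 1), (58, 1), (59, 1), (65, 1), (70, 1), (71, 1), (115, 1), (118, 1), (119, 1), (120, 1), (124, 1), (125, 1), (133, 1), (134, 1)],
    [(3, 1), (5, 1), (7, 1), (14, 1), (16, 1), (19, 1), (21, 1), (57, 1), (59, 1)],
    [(32, 1), (33, 1), (46, 1)],
    [(32, 1)],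
    [(21, 1)],
    [(7, 1)],
    [(0, 1), (2, 1), (3, 1), (7, 1), (8, 1), (13, 1), (14, 1), (21, 1), (23, 1), (32, 1), (33, 1), (35, 1), (36, 1), (47, 1), (48, 1), (49, 1), (57, 1), (58, 1), (60, 1), (92, 1), (132, 1)],
    [(0, 1), (2, 1), (3, 1), (4, 1), (5, 1), (6, 1), (9, 1), (13, 1), (14, 1), (15, 1), (16, 1), (18, 1), (20, 1), (26, 1), (29, 1), (40, 1), (42, 1), (44, 1)],
    [(3, 1), (5, 1), (14, 1), (16, 1), (27, 1)],
    [(14, 1)],
    [(3, 1)],
    [(0, 1), (2, 1), (3, 1), (4, 1), (8, 1), (13, 1), (14, 1), (15, 1), (18, 1), (19, 1), (20, 1), (21, 1), (22, 1), (28, 1), (29, 1), (30, 1), (35, 1), (36, 1), (42, 1), (44, 1), (46, 1), (48, 1), (54, 1), (57, 1), (59, 1), (61, 1), (66, 1), (67, 1), (68, 1), (69, 1), (76, 1), (87, 1), (93, 1), (95, 1)],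
    [(26, 1)],
    [(13, 1)],
    [(2, 1)],
    [(0, 1), (1, 1), (3, 1), (4, 1), (6, 1), (9, 1), (15, 1), (16, 1), (17, 1), (19, 1), (20, 1), (21, 1), (23, 1), (27, 1), (28, 1), (35, 1), (36, 1), (41, 1), (48, 1), (58, 1), (59, 1), (60, 1), (68, 1), (69, 1), (76, 1), (78, 1), (84, 1), (91, 1)],
    [(12, 1)],
    [(1, 1)],
    [(1, 1), (2, 1), (3, 1), (7, 1), (8, 1), (9, 1), (13, 1), (14, 1), (17, 1), (19, 1), (21, 1), (23, 1), (30, 1), (31, 1), (32, 1), (33, 1), (35, 1), (36, 1), (41, 1), (42, 1), (48, 1), (49, 1), (57, 1), (58, 1), (60, 1)],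
    [(0, 1)],
    [(1, 1), (3, 1), (9, 1), (14, 1), (17, 1), (19, 1), (30, 1), (31, 1), (41, 1), (42, 1)]]
  extra := []

/-- The elements for 3. -/
def twoThreeIdx : List ℕ := [1651, 1661, 1671, 1682, 1696, 1709, 1719, 1730, 1740]

/-- The separating data for 3. -/
def twoThreeSeps : List (List ℕ × ℕ × ℕ) := [
  ([15032396, 4642589, 3797017, 1580057, 824921, 361056], 0, 2392064),
  ([14587453, 6415888, 2222403, 676217, 394849, 202611, 22102], 0, 9437184),
  ([2718358], 0, 4194304),
  ([11228300, 1157149], 0, 10485760),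
  ([3225332], 0, 8388608),
  ([5351887], 0, 131072)]

/-- Certificate for 3 (rules) -/
def twoThreeCertRules : List (List ℕ × List ℕ) := [
  ([0, 0, 0], []),
  ([1, 0], [0, 1, 4, 4]),
  ([2, 0], [0, 1, 2]),
  ([3, 0], [0, 3, 4]),
  ([4, 0], [0, 4]),
  ([5, 0], [0, 4, 5]),
  ([1, 1, 1], []),
  ([2, 1], [1, 2]),
  ([3, 1], [1, 3]),
  ([4, 1], [1, 4]),
  ([5, 1], [1, 4, 5]),
  ([2, 2, 2], []),
  ([3, 2], [2, 3]),
  ([4, 2], [2, 4]),
  ([5, 2], [2, 3, 4, 5]),
  ([3, 3, 3], []),
  ([4, 3], [3, 4]),
  ([5, 3], [3, 4, 5]),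
  ([4, 4, 4], []),
  ([5, 4], [4, 5]),
  ([5, 5, 5], []),
  ([6, 0], [0, 0, 1, 1, 3, 5, 5, 6]),
  ([6, 1], [0, 0, 1, 3, 5, 6]),
  ([6, 3], [0, 4, 5, 6]),
  ([6, 4], [4, 6]),
  ([6, 5], [0, 0, 1, 1, 3, 3, 5, 6]),
  ([7, 0], [0, 0, 1, 3, 3, 4, 7]),
  ([7, 1], [0, 1, 4, 4, 5, 7]),
  ([7, 3], [0, 0, 4, 4, 7]),
  ([7, 4], [4, 7]),
  ([7, 5], [1, 4, 7]),
  ([8, 0], [5, 8]),
  ([8, 1], [3, 4, 4, 8]),
  ([8, 2], [1, 2, 2, 4, 4, 8]),
  ([8, 3], [1, 3, 4, 4, 8]),
  ([8, 4], [4, 8]),
  ([8, 5], [0, 3, 4, 4, 5, 5, 8])]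

/-- Certificate for 3 (equations) -/
def twoThreeCertEqs0 : List (List ℕ × List Schur.StableCert.Step × List Schur.StableCert.Step) := [
  ([5, 4, 2], [(0, 19, true), (1, 14, true), (0, 13, true), (1, 16, true)],
    [(1, 13, true), (0, 14, true), (3, 19, true)]),
  ([5, 3, 2], [(0, 17, true), (2, 14, true), (1, 13, true), (0, 12, true), (2, 16, true)],
    [(1, 12, true), (0, 14, true), (3, 17, true), (2, 16, true)]),
  ([5, 3, 1], [(0, 17, true), (2, 10, true), (1, 9, true), (0, 8, true)],
    [(1, 8, true), (0, 10, true), (2, 17, true), (1, 16, true)]),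
  ([5, 3, 0], [(0, 17, true), (2, 5, true), (1, 4, true), (0, 3, true), (2, 18, true)],
    [(1, 3, true), (0, 5, true), (2, 17, true), (1, 16, true), (4, 19, true), (2, 18, true)]),
  ([5, 2, 1], [(0, 14, true), (3, 10, true), (2, 9, true), (1, 8, true), (0, 7, true)],
    [(1, 7, true), (0, 10, true), (2, 14, true), (1, 13, true), (2, 16, true)]),
  ([5, 2, 0], [(0, 14, true), (3, 5, true), (2, 4, true), (1, 3, true), (0, 2, true), (4, 18, true)],
    [(1, 2, true), (0, 5, true), (2, 10, true), (1, 9, true), (4, 14, true), (3, 13, true), (2, 13, true), (4, 16, true), (3, 16, true), (4, 18, true)]),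
  ([5, 1, 0], [(0, 10, true), (2, 5, true), (1, 4, true), (0, 1, true), (2, 18, true)],
    [(1, 1, true), (0, 5, true), (2, 10, true), (1, 9, true), (4, 19, true), (2, 18, true), (2, 19, true)]),
  ([1, 1, 1, 0], [(0, 6, true)],
    [(2, 1, true), (1, 1, true), (0, 1, true), (3, 9, true), (2, 9, true), (3, 18, true), (3, 9, true), (1, 6, true), (1, 18, true)]),
  ([2, 2, 2, 0], [(0, 11, true)],
    [(2, 2, true), (1, 2, true), (0, 2, true), (2, 7, true), (4, 7, true), (3, 7, true), (1, 6, true), (1, 11, true)]),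
  ([5, 5, 5, 2], [(0, 20, true)],
    [(2, 14, true), (1, 14, true), (0, 14, true), (3, 17, true), (2, 16, true), (5, 19, true), (3, 18, true), (4, 17, true), (3, 17, true), (1, 15, true), (2, 19, true), (4, 19, true), (3, 19, true), (1, 18, true), (1, 20, true)]),
  ([6, 0, 0, 0], [(0, 21, true), (7, 21, true), (14, 21, true), (6, 5, true), (5, 5, true), (4, 3, true), (3, 1, true), (2, 1, true), (0, 0, true), (2, 9, true), (1, 9, true), (2, 18, true), (2, 16, true), (3, 18, true), (3, 19, true), (5, 5, true), (4, 5, true), (3, 4, true), (2, 3, true), (1, 1, true), (0, 1, true), (3, 9, true), (2, 9, true), (3, 18, true), (3, 16, true), (4, 18, true), (5, 19, true), (7, 10, true), (6, 10, true), (5, 9, true), (4, 9, true), (3, 8, true), (1, 6, true), (2, 18, true), (2, 19, true), (4, 10, true), (3, 10, true), (2, 9, true), (1, 8, true), (5, 19, true), (3, 18, true), (4, 17, true), (3, 17, true), (5, 19, true), (6, 20, true), (6, 5, true), (5, 4, true), (4, 4, true), (3, 3, true), (2, 3, true), (1, 1,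 true), (4, 16, true), (3, 16, true), (4, 18, true), (5, 18, true), (6, 5, true), (5, 4, true), (4, 3, true), (3, 3, true), (2, 1, true), (0, 0, true), (2, 16, true), (1, 16, true), (2, 18, true), (3, 18, true), (3, 10, true), (2, 8, true), (1, 8, true), (5, 10, true), (4, 9, true), (3, 8, true), (2, 8, true), (0, 6, true), (4, 17, true), (3, 16, true), (2, 16, true), (0, 15, true), (0, 18, true), (0, 20, true)],
    [(1, 0, true)]),
  ([6, 3, 3, 3], [(0, 23, true), (3, 23, true), (6, 23, true), (2, 5, true), (1, 4, true), (4, 19, true), (2, 18, true), (3, 5, true), (2, 5, true), (0, 0, true), (1, 19, true), (3, 19, true), (2, 19, true), (0, 18, true), (0, 20, true)],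
    [(1, 15, true)]),
  ([6, 1, 0], [(0, 22, true), (5, 21, true), (4, 5, true), (3, 3, true), (2, 1, true), (0, 0, true), (2, 16, true), (1, 16, true), (2, 18, true), (3, 5, true), (2, 4, true), (1, 3, true), (0, 1, true), (3, 16, true), (2, 16, true), (3, 18, true), (5, 10, true), (4, 9, true), (3, 9, true), (2, 8, true), (4, 18, true), (4, 10, true), (3, 8, true), (1, 6, true), (3, 17, true), (2, 16, true), (5, 20, true)],
    [(1, 1, true), (0, 21, true), (7, 22, true), (12, 24, true), (13, 24, true), (6, 5, true), (5, 5, true), (4, 3, true), (3, 1, true), (2, 1, true), (0, 0, true), (2, 9, true), (1, 9, true), (2, 18, true), (2, 16, true), (3, 18, true), (3, 19, true), (5, 5, true), (4, 5, true), (3, 4, true), (2, 3, true), (1, 1, true), (0, 1, true), (3, 9, true), (2, 9, true), (3, 18, true), (3, 16, true), (4, 18, true), (5, 19, true), (7, 10, true), (6, 10, true), (5, 9, true), (4, 9, true), (3, 8, true), (1, 6, true), (2, 18, true), (2, 19, true), (4, 17, true), (3, 17, true), (2, 16, true),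 (5, 19, true), (3, 18, true), (3, 20, true)]),
  ([6, 3, 0], [(0, 23, true), (3, 21, true), (2, 5, true), (1, 4, true), (4, 5, true), (3, 4, true), (2, 4, true), (0, 0, true), (0, 18, true), (0, 10, true), (2, 10, true), (1, 9, true), (4, 17, true), (3, 16, true), (2, 16, true), (3, 18, true), (3, 20, true)],
    [(1, 3, true), (0, 21, true), (7, 23, true), (10, 24, true), (6, 5, true), (5, 5, true), (4, 3, true), (3, 1, true), (2, 1, true), (0, 0, true), (2, 9, true), (1, 9, true), (2, 18, true), (2, 16, true), (3, 18, true), (3, 19, true), (5, 19, true), (4, 19, true), (5, 20, true), (3, 18, true)]),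
  ([6, 3, 1], [(0, 23, true), (3, 22, true), (2, 5, true), (1, 4, true), (4, 5, true), (3, 4, true), (2, 4, true), (0, 0, true), (0, 18, true), (0, 10, true), (2, 17, true), (1, 16, true)],
    [(1, 8, true), (0, 22, true), (5, 23, true), (4, 5, true), (3, 3, true), (2, 1, true), (0, 0, true), (2, 16, true), (1, 16, true), (2, 18, true), (3, 19, true)]),
  ([7, 1, 0], [(0, 27, true), (5, 26, true), (4, 5, true), (3, 4, true), (2, 4, true), (1, 1, true), (3, 18, true), (5, 5, true), (4, 4, true), (3, 4, true), (2, 1, true), (0, 0, true), (1, 18, true), (3, 10, true), (2, 9, true), (1, 9, true), (2, 18, true), (2, 17, true), (4, 17, true), (3, 16, true), (6, 19, true), (4, 18, true)],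
    [(1, 1, true), (0, 26, true), (6, 27, true), (11, 29, true), (12, 29, true), (5, 4, true), (4, 3, true), (3, 3, true), (2, 1, true), (0, 0, true), (2, 16, true), (1, 16, true), (2, 18, true), (4, 9, true), (3, 9, true), (2, 8, true), (1, 8, true), (4, 18, true), (5, 19, true), (6, 19, true), (4, 18, true)])]

/-- Certificate for 3 (equations) -/
def twoThreeCertEqs1 : List (List ℕ × List Schur.StableCert.Step × List Schur.StableCert.Step) := [
  ([7, 5, 0], [(0, 30, true), (2, 26, true), (1, 4, true), (0, 1, true), (2, 18, true), (1, 1, true), (4, 9, true), (3, 9, true), (5, 16, true), (4, 16, true), (6, 16, true), (5, 16, true), (6, 18, true)],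
    [(1, 5, true), (0, 26, true), (6, 29, true), (7, 30, true), (6, 9, true), (5, 9, true), (4, 8, true), (3, 8, true), (6, 18, true)]),
  ([8, 2, 2, 2], [(0, 33, true), (5, 33, true), (10, 33, true), (4, 9, true), (3, 9, true), (2, 7, true), (1, 7, true), (5, 13, true), (4, 13, true), (2, 11, true), (3, 13, true), (2, 13, true), (3, 18, true), (3, 9, true), (2, 7, true), (0, 6, true), (1, 13, true), (2, 13, true), (0, 11, true), (0, 18, true)],
    [(1, 11, true)]),
  ([8, 2, 1], [(0, 33, true), (5, 32, true), (4, 16, true), (3, 16, true), (4, 18, true)],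
    [(1, 7, true), (0, 32, true), (3, 33, true), (2, 9, true), (1, 9, true), (0, 8, true), (3, 13, true), (2, 13, true), (1, 12, true), (4, 13, true), (3, 13, true), (2, 12, true), (4, 18, true)]),
  ([8, 3, 2], [(0, 34, true), (4, 33, true), (3, 9, true), (2, 9, true), (1, 8, true), (4, 13, true), (3, 13, true), (2, 12, true), (5, 13, true), (4, 13, true), (3, 12, true), (5, 18, true)],
    [(1, 12, true), (0, 33, true), (5, 34, true), (4, 9, true), (3, 9, true), (2, 7, true), (1, 7, true), (5, 16, true), (4, 16, true), (5, 18, true)])]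

/-- Certificate for 3 -/
def twoThreeCert : Schur.StableCert.Cert where
  rules := twoThreeCertRules
  n := 6
  sylRules := 21
  eqs := twoThreeCertEqs0 ++ twoThreeCertEqs1
  adj := [
    [],
    [0, 0, 1],
    [],
    [0, 1, 0, 0, 0, 0, 0, 0, 0, 0, 0, 0, 0, 0, 1],
    [0, 2],
    []]
  sel := [
    [(3, 2), (6, 2), (7, 2), (8, 2), (10, 1), (11, 1)],
    [],
    [],
    [(0, 1), (2, 1), (3, 2), (4, 1), (5, 1), (6, 2), (7, 2), (12, 1), (13, 1), (14, 1), (15, 1), (16, 1)],
    [(0, 2), (2, 1), (3, 1), (6, 1)],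
    [(4, 1), (5, 1), (6, 2), (7, 2), (12, 2), (13, 2)],
    [(8, 1)],
    [(0, 2), (1, 2), (4, 1), (18, 2), (19, 1)],
    [(1, 2), (2, 1), (4, 2)],
    [(0, 2), (2, 2)],
    [(1, 2), (4, 1), (5, 2), (7, 2), (12, 1), (13, 1), (14, 1), (15, 1), (16, 1)],
    [(7, 2), (8, 2), (17, 2)],
    [(0, 2), (2, 2), (18, 1), (19, 1)],
    [(1, 2)],
    [],
    [(0, 1), (2, 2), (3, 1), (6, 2), (7, 2), (9, 1)],
    [(0, 2)],
    [(3, 1), (4, 1), (5, 1), (6, 1), (7, 1), (12, 1), (13, 1), (14, 2)],
    [(7, 2)],
    [(2, 1), (3, 2), (6, 1)],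
    [(0, 2), (3, 2), (6, 1), (7, 2), (8, 1), (9, 1), (10, 2), (11, 1)]]
  extra := []

/-- The elements for 5. -/
def twoFiveIdx : List ℕ := [1752, 1760, 1773, 1785]

/-- The separating data for 5. -/
def twoFiveSeps : List (List ℕ × ℕ × ℕ) := [
  ([9973828, 5940139, 2966194, 49125], 0, 13631488),
  ([12228879], 0, 4194304),
  ([10657781], 0, 4194304)]

/-- Certificate for 5 (rules) -/
def twoFiveCertRules : List (List ℕ × List ℕ) := [
  ([0, 0, 0, 0, 0], []),
  ([1, 0], [0, 1]),
  ([2, 0], [0, 1, 2]),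
  ([1, 1, 1, 1, 1], []),
  ([2, 1], [1, 2]),
  ([2, 2, 2, 2, 2], []),
  ([3, 0], [0, 0, 0, 1, 1, 3]),
  ([3, 1], [1, 3]),
  ([3, 2], [0, 0, 0, 1, 2, 2, 3])]

/-- Certificate for 5 (equations) -/
def twoFiveCertEqs0 : List (List ℕ × List Schur.StableCert.Step × List Schur.StableCert.Step) := [
  ([2, 2, 2, 2, 2, 0], [(0, 5, true)],
    [(4, 2, true), (3, 2, true), (2, 2, true), (1, 2, true), (0, 2, true), (2, 4, true), (4, 4, true), (3, 4, true), (6, 4, true), (5, 4, true), (4, 4, true), (8, 4, true), (7, 4, true), (6, 4, true), (5, 4, true), (1, 3, true), (1, 5, true)]),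
  ([3, 0, 0, 0, 0, 0], [(0, 6, true), (5, 6, true), (10, 6, true), (15, 6, true), (20, 6, true), (4, 1, true), (3, 1, true), (5, 1, true), (4, 1, true), (0, 0, true), (1, 1, true), (0, 1, true), (4, 1, true), (3, 1, true), (2, 1, true), (1, 1, true), (5, 1, true), (4, 1, true), (3, 1, true), (2, 1, true), (6, 1, true), (5, 1, true), (4, 1, true), (3, 1, true), (4, 3, true), (4, 1, true), (0, 0, true), (0, 1, true), (1, 1, true), (4, 1, true), (3, 1, true), (2, 1, true), (5, 1, true), (4, 1, true), (3, 1, true), (6, 1, true), (5, 1, true), (4, 1, true), (0, 0, true), (0, 3, true)],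
    [(1, 0, true)]),
  ([3, 2, 2, 2, 2, 2], [(0, 8, true), (6, 8, true), (12, 8, true), (18, 8, true), (24, 8, true), (5, 2, true), (4, 2, true), (3, 1, true), (6, 4, true), (8, 2, true), (7, 2, true), (6, 1, true), (5, 1, true), (4, 1, true), (0, 0, true), (4, 4, true), (0, 3, true), (1, 2, true), (0, 2, true), (2, 4, true), (4, 4, true), (3, 4, true), (7, 2, true), (6, 2, true), (5, 2, true), (4, 2, true), (3, 1, true), (2, 1, true), (1, 1, true), (6, 4, true), (2, 3, true), (3, 4, true), (2, 4, true), (5, 4, true), (4, 4, true), (3, 4, true), (7, 2, true), (6, 2, true), (5, 2, true), (4, 2, true), (3, 1, true), (2, 1, true), (6, 4, true), (8, 4, true), (7, 4, true), (3, 3, true), (5, 4, true), (4, 4, true), (3, 4, true), (7, 2, true), (6, 2, true), (5, 2, true), (4, 2, true), (3, 1, true), (6, 4, true), (8, 4, true), (7, 4, true), (10, 4, true), (9, 4, true), (8, 4, true), (4, 3, true), (7, 4, true), (6, 4, true), (5, 4, true), (4, 4, true), (5, 5, true), (5, 2, true), (4, 1, true), (0, 0, true),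 (2, 2, true), (1, 1, true), (0, 1, true), (4, 2, true), (3, 1, true), (2, 1, true), (1, 1, true), (6, 4, true), (2, 3, true), (4, 2, true), (3, 2, true), (2, 2, true), (4, 4, true), (6, 4, true), (5, 4, true), (8, 2, true), (7, 2, true), (6, 2, true), (5, 1, true), (4, 1, true), (3, 1, true), (8, 4, true), (4, 3, true), (5, 4, true), (4, 4, true), (7, 2, true), (6, 2, true), (5, 2, true), (4, 1, true), (0, 0, true), (2, 4, true), (4, 4, true), (3, 4, true), (6, 4, true), (5, 4, true), (4, 4, true), (0, 3, true), (0, 5, true)],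
    [(1, 5, true)]),
  ([3, 1, 0], [(0, 7, true), (1, 6, true), (0, 1, true), (1, 1, true), (2, 1, true)],
    [(1, 1, true), (0, 6, true), (5, 7, true)]),
  ([3, 2, 1], [(0, 8, true), (6, 7, true), (5, 4, true), (4, 4, true)],
    [(1, 4, true), (0, 7, true), (1, 8, true), (0, 1, true), (1, 1, true), (2, 1, true)])]

/-- Certificate for 5 -/
def twoFiveCert : Schur.StableCert.Cert where
  rules := twoFiveCertRules
  n := 3
  sylRules := 6
  eqs := twoFiveCertEqs0
  adj := [
    [],
    [0, 0, 1],
    []]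
  sel := [
    [(0, 4), (1, 2)],
    [(3, 2)],
    [],
    [(0, 1)],
    [(3, 1), (4, 4)],
    [(0, 1), (1, 4), (2, 4)]]
  extra := []

end Cfsg.Agent.ConwayModTwo
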