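import Cfsg.Agent.Lib.ConwayModTwo.Parts
import Cfsg.Agent.Lib.ConwayModTwo.CoTwoCerts

/-!
Checks on certificates and on the elements they are about.
-/

set_option autoImplicit false
set_option maxRecDepth 100000

namespace Cfsg.Agent.ConwayModTwo

theorem twoThree_check : twoThreeCert.check 3 = true := by decide +kernel

theorem twoThree_part : partOK twoThreeIdx twoThreeCert twoThreeSeps = true := by decide +kernel

theorem twoFive_check : twoFiveCert.check 5 = true := by decide +kernel

theorem twoFive_part : partOK twoFiveIdx twoFiveCert twoFiveSeps = true := by decide +kernel

end Cfsg.Agent.ConwayModTwo
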