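import Cfsg.Agent.Lib.ConwayModTwo.Parts
import Cfsg.Agent.Lib.ConwayModTwo.CoTwoCerts

/-!
Checks on certificates and on the elements they are about.
-/

set_option autoImplicit false
set_option maxRecDepth 100000

namespace Cfsg.Agent.ConwayModTwo

theorem twoTwo_check : twoTwoCert.check 2 = true := by decide +kernel

theorem twoTwo_part : partOK twoTwoIdx twoTwoCert twoTwoSeps = true := by decide +kernel

end Cfsg.Agent.ConwayModTwo
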