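import Cfsg.Agent.Lib.ConwayModTwo.Table
import Cfsg.Agent.Lib.ConwayModTwo.CoTwoTwoCheck
import Cfsg.Agent.Lib.ConwayModTwo.CoTwoOddCheck
import Cfsg.Agent.Lib.Schur.SylowLocal
import Cfsg.Agent.Lib.Schur.Exponent

/-!
The Schur multiplier of Co2 is trivial.

For 2, 3, 5 certificates on the tails over a Sylow subgroup, with elements of Co0 fixing the class of the vector
`(4, 4, 0^22)` modulo twice the lattice; the other primes divide once.
-/

set_option autoImplicit false
set_option maxRecDepth 20000

namespace Cfsg.Agent.ConwayModTwo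

open Cfsg Cfsg.Agent.Leech MulAction Subgroup
open Schur.StableCert (prodW Cert)

/-- The masks fix the class of `leechU`. -/
def fixUOK (is : List ℕ) : Bool :=
  (pick is).all fun l => appL l (parMask fixCoords) == parMask fixCoords

theorem q2_leechU : q2 Spor.leechU = cQ bQ (parMask fixCoords) := by
  have e : Spor.leechU = zComb fixCoords := by
    refine Subtype.ext (funext fun p => ?_)
    rw [zComb_apply fix_coords.1, fix_coords.2 _ (Mathieu.ptEnc p).isLt, leechU_dec]
  rw [e, zComb, bQ]
  exact q2_zsum _ _ (by simp [fix_coords.1, bvs_eq])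

theorem smul_leechU {g : Co0} {l : List ℕ} (hg : Rep g l) (hl : appL l (parMask fixCoords) = parMask fixCoords) :
    g • Spor.leechU = Spor.leechU ∨ g • Spor.leechU = -Spor.leechU := by
  have h : q2 (g • Spor.leechU) = q2 Spor.leechU := by
    rw [← actQ_q2, q2_leechU, hg.apply, hl]
  obtain ⟨w, hw⟩ : g • Spor.leechU - Spor.leechU ∈ twiceL := by
    have := QuotientAddGroup.eq.1 h.symm
    rwa [neg_add_eq_sub] at this
  have h2 : ((g • Spor.leechU : leechLattice) : GolayPt → ℤ) - (Spor.leechU : GolayPt → ℤ) =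
      2 • (w : GolayPt → ℤ) := by
    have := congrArg Subtype.val hw
    simpa using this.symm
  rcases congr_short (mem_leechLattice.1 Spor.leechU.2) (mem_leechLattice.1 w.2)
    (by rw [co0_norm, leechU_facts.1]; norm_num) (by rw [leechU_facts.1]; norm_num) h2 with e | e | e
  · exact Or.inl (Subtype.ext e)
  · exact Or.inr (Subtype.ext e)
  · have := e.2.1
    rw [leechU_facts.1] at this
    omega

theorem two_part_data {is : List ℕ} {C : Cert} {seps : List (List ℕ × ℕ × ℕ)} (h : partOK is C seps = true)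
    (hU : fixUOK is = true) :
    ∃ g : ℕ → co2Grp, (∀ r ∈ C.rules, prodW g r.1 = prodW g r.2) ∧
      ∀ {p : ℕ} [Fact p.Prime], C.shape p = true → Nat.card (closure (g '' Set.Iio C.n)) = p ^ C.n := by
  obtain ⟨g, hg, -, -, -⟩ := part_data h exists_rep_table
  have hl : (pick is).length = is.length := List.length_map _
  have get : ∀ i, ∃ x : co2Grp, i < is.length → Rep (x : Co0) ((pick is).getD i []) := fun i => by
    by_cases hi : i < is.length
    · have hfix : appL ((pick is).getD i []) (parMask fixCoords) = parMask fixCoords := by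
        simp only [fixUOK, List.all_eq_true, beq_iff_eq] at hU
        exact hU _ (by rw [List.getD_eq_getElem _ _ (hl ▸ hi)]; exact List.getElem_mem _)
      rcases smul_leechU (hg i hi) hfix with e | e
      · exact ⟨⟨g i, mem_stabilizer_iff.2 e⟩, fun _ => hg i hi⟩
      · exact ⟨⟨negElt * g i, mem_stabilizer_iff.2 (by rw [mul_smul, e, negElt_smul, neg_neg])⟩,
          fun _ => (hg i hi).neg⟩
    · exact ⟨1, fun h => absurd h hi⟩
  choose x hx using get
  simp only [partOK, Bool.and_eq_true, decide_eq_true_eq] at h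
  obtain ⟨⟨⟨-, hrules⟩, hn⟩, hsep⟩ := h
  have hrel : ∀ r ∈ C.rules, prodW x r.1 = prodW x r.2 := by
    intro r hr
    have h1 := rules_center hrules (g := fun i => (x i : Co0)) (fun i hi => hx i (hl ▸ hi)) r hr
    have e : ∀ w, prodW (fun i => (x i : Co0)) w = ((prodW x w : co2Grp) : Co0) := fun w =>
      (Schur.StableCert.map_prodW co2Grp.subtype x w).symm
    rw [e, e, ← coe_inv, ← coe_mul] at h1
    rcases center_eq h1 with h2 | h2
    · exact inv_mul_eq_one.1 (Subtype.ext (h2.trans rfl))
    · have h3 := ((prodW x r.1)⁻¹ * prodW x r.2).2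
      rw [mem_stabilizer_iff, h2, negElt_smul] at h3
      have h4 := congrFun (congrArg Subtype.val h3) none
      rw [NegMemClass.coe_neg, Pi.neg_apply, leechU_facts.2.1] at h4
      omega
  refine ⟨x, hrel, fun {p} _ hsh => Schur.StableCert.card_closure_eq_of_separated hsh hrel fun i hi => ?_⟩
  refine ⟨closure (x '' Set.Ioo i C.n), fun j h1 h2 => subset_closure ⟨j, ⟨h1, h2⟩, rfl⟩, fun hmem => ?_⟩
  rw [List.all_eq_true] at hsep
  refine not_mem_closure (hsep i (List.mem_range.2 hi)) hi (hl ▸ hn) (g := fun i => (x i : Co0))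
    (fun i hi => hx i (hl ▸ hi)) 1 actQ_one ?_
  rw [one_mul]
  have h5 : co2Grp.subtype (x i) ∈ (closure (x '' Set.Ioo i C.n)).map co2Grp.subtype := mem_map_of_mem _ hmem
  rw [MonoidHom.map_closure, ← Set.image_comp] at h5
  exact closure_mono Set.subset_union_right h5

theorem two_fixU : fixUOK twoTwoIdx = true ∧ fixUOK twoThreeIdx = true ∧ fixUOK twoFiveIdx = true := by
  decide +kernel

theorem two_lens : (twoTwoCert.n = 18 ∧ twoTwoCert.extra = []) ∧ (twoThreeCert.n = 6 ∧ twoThreeCert.extra = []) ∧
    (twoFiveCert.n = 3 ∧ twoFiveCert.extra = []) := by decide +kernel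

variable {Γ : Type} [Group Γ] [Finite Γ]

theorem ker_of_cert {p : ℕ} [hp : Fact p.Prime] {is : List ℕ} {C : Cert} {seps : List (List ℕ × ℕ × ℕ)}
    (hpart : partOK is C seps = true) (hU : fixUOK is = true) (hchk : C.check p = true) (hex : C.extra = [])
    {m : ℕ} (hm : 42305421312000 = p ^ C.n * m) (hpm : ¬ p ∣ m)
    (σ : Γ →* co2Grp) (hσ : IsStemExtension σ) (hexp : ∀ z ∈ σ.ker, z ^ p = 1) : σ.ker = ⊥ := by
  obtain ⟨g, hrel, hcard⟩ := two_part_data hpart hU
  have hsh : C.shape p = true := by
    have hc := hchk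
    simp only [Cert.check, Bool.and_eq_true] at hc; exact hc.1
  exact Schur.StableCert.ker_eq_bot_of_cert σ hσ hexp hchk hrel
    (fun k hk => absurd hk (by rw [hex]; exact List.not_mem_nil)) (hcard hsh)
    (not_dvd_index card_co2Grp (hcard hsh) hm hpm hp.out.pos)

/-- The multiplier is trivial. -/
theorem co2Grp_multiplier : HasCyclicSchurMultiplier co2Grp 1 := by
  refine Schur.hasCyclicSchurMultiplier_one_of_exponent fun p hp Γ _ _ σ hσ hexp => ?_
  by_cases h : p ^ 2 ∣ Nat.card co2Grp
  · rw [card_co2Grp] at h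
    have hcases := eq_of_sq_dvd hp [(2, 18), (3, 6), (5, 3), (7, 1), (11, 1), (23, 1)] (by norm_num)
      (by norm_num; exact h)
    haveI := Fact.mk hp
    obtain ⟨⟨n2, e2⟩, ⟨n3, e3⟩, n5, e5⟩ := two_lens
    simp only [List.map_cons, List.map_nil, List.mem_cons, List.not_mem_nil, or_false] at hcases
    rcases hcases with rfl | rfl | rfl | rfl | rfl | rfl
    · exact ker_of_cert twoTwo_part two_fixU.1 twoTwo_check e2 (m := 161382375) (by rw [n2]; norm_num)
        (by norm_num) σ hσ hexp
    · exact ker_of_cert twoThree_part two_fixU.2.1 twoThree_check e3 (m := 58032128000) (by rw [n3]; norm_num)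
        (by norm_num) σ hσ hexp
    · exact ker_of_cert twoFive_part two_fixU.2.2 twoFive_check e5 (m := 338443370496) (by rw [n5]; norm_num)
        (by norm_num) σ hσ hexp
    · norm_num at h
    · norm_num at h
    · norm_num at h
  · haveI := Fact.mk hp
    obtain ⟨P, hP⟩ := Schur.local_of_not_sq_dvd σ hσ.1 hσ.2.1 hp h
    exact Schur.ker_eq_bot_of_local σ hσ.2.1 hσ.2.2 hp hexp P P.not_dvd_index hP

end Cfsg.Agent.ConwayModTwo
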