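import Cfsg.Agent.Lib.ConwayModTwo.BasisChecks
import Cfsg.Agent.Lib.Leech.Co2Group
import Cfsg.Agent.Lib.Schur.StableCert

/-!
Elements of Co0 given by products of six generators, compared modulo the centre through their masks.

* `eq_mod_center`: equal masks give elements equal up to the centre;
* `exists_rep`: every mask list of a checked list of products belongs to an element;
* `not_mem_closure`: a subgroup is separated from an element by a subspace, an affine point and a functional.
-/

set_option autoImplicit false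
set_option maxRecDepth 20000

namespace Cfsg.Agent.ConwayModTwo

open Cfsg Cfsg.Agent.Leech Cfsg.Agent.ConwayOut
open Schur.StableCert (prodW)

theorem basis_spec :
    (∀ k < 24, inLB (dec8 (basisData.getD k 0)) = true) ∧
    (∀ k < 24, ∀ n < 24, (dualData.getD k []).getD n 0 = sumAt (gramInv.getD k []) n) ∧
    (∀ n < 24, ∀ m < 24, (List.zipWith (fun V D => dig8 V n * D.getD m 0) basisData dualData).sum =
      if n = m then 8 else 0) ∧
    (∀ k < 24, ∀ j < 24, (List.zipWith (fun n d => d * dig8 (basisData.getD j 0) n) (List.range 24)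
      (dualData.getD k [])).sum = if k = j then 8 else 0) ∧
    basisData.length = 24 ∧ dualData.length = 24 ∧ ∀ k < 24, (dualData.getD k []).length = 24 := by
  have h := basis_ok
  simp only [basisOK, Bool.and_eq_true, beq_iff_eq, List.all_eq_true (l := List.range 24), List.mem_range,
    List.all_eq_true (l := basisData), List.all_eq_true (l := dualData), List.all_eq_true (l := gramInv)] at h
  obtain ⟨⟨⟨⟨⟨⟨⟨⟨h1, h2⟩, -⟩, -⟩, h3⟩, h4⟩, h5⟩, h6⟩, h7⟩ := h
  refine ⟨fun k hk => ?_, h4, h5, h6, h1, h3, fun k hk => ?_⟩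
  · exact h2 _ (by rw [List.getD_eq_getElem _ _ (by omega)]; exact List.getElem_mem _)
  · exact h7 _ (by rw [List.getD_eq_getElem _ _ (by omega)]; exact List.getElem_mem _)

/-! ### Sums over lists and coordinates -/

theorem sum_pt (f : ℕ → ℤ) : ∑ p : GolayPt, f (Mathieu.ptEnc p).val = ∑ n : Fin 24, f n.val :=
  Equiv.sum_comp Mathieu.ptEnc fun n : Fin 24 => f n.val

theorem zipWith_sum {α β : Type*} (f : α → β → ℤ) (a : α) (b : β) :
    ∀ (n : ℕ) (l : List α) (l' : List β), l.length = n → l'.length = n →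
      (List.zipWith f l l').sum = ∑ k : Fin n, f (l.getD k a) (l'.getD k b)
  | 0, [], [], _, _ => by simp
  | n + 1, x :: l, y :: l', h, h' => by
    simp only [List.length_cons, add_left_inj] at h h'
    rw [List.zipWith_cons_cons, List.sum_cons, Fin.sum_univ_succ, zipWith_sum f a b n l l' h h']
    simp

/-- The basis vector `k`. -/
noncomputable def bv (k : ℕ) : leechLattice := ofPack (basisData.getD k 0)

theorem bv_val {k : ℕ} (hk : k < 24) : (bv k : GolayPt → ℤ) = dec8 (basisData.getD k 0) := by
  rw [bv, ofPack, dif_pos (mem_leechLattice.2 (inL_of_inLB (basis_spec.1 k hk)))]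

theorem bvs_eq : bvs = (List.range 24).map bv := by
  refine List.ext_getElem (by simp [bvs, basis_spec.2.2.2.2.1]) fun k h1 h2 => ?_
  simp only [bvs, List.getElem_map, List.getElem_range, bv]
  rw [List.getD_eq_getElem]

theorem zComb_eq {cs : List ℤ} (h : cs.length = 24) : zComb cs = ∑ k : Fin 24, cs.getD k 0 • bv k := by
  have : ∀ (n : ℕ) (l : List ℤ) (f : ℕ → leechLattice), l.length = n →
      (List.zipWith (· • ·) l ((List.range n).map f)).sum = ∑ k : Fin n, l.getD k 0 • f k := by
    intro n
    induction n with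
    | zero => intro l f hl; simp
    | succ n ih =>
      intro l f hl
      obtain ⟨x, l, rfl⟩ := List.exists_cons_of_length_eq_add_one hl
      simp only [List.length_cons, add_left_inj] at hl
      rw [List.range_succ_eq_map, List.map_cons, List.map_map, List.zipWith_cons_cons, List.sum_cons,
        Fin.sum_univ_succ, ih l (f ∘ Nat.succ) hl]
      simp
  rw [zComb, bvs_eq, this 24 cs bv h]

theorem zComb_apply {cs : List ℤ} (h : cs.length = 24) (p : GolayPt) :
    (zComb cs : GolayPt → ℤ) p = sumAt cs (Mathieu.ptEnc p).val := by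
  rw [zComb_eq h, sumAt, zipWith_sum (fun c V => c * dig8 V _) 0 0 24 cs basisData h basis_spec.2.2.2.2.1,
    AddSubgroup.val_finset_sum, Finset.sum_apply]
  refine Finset.sum_congr rfl fun k _ => ?_
  rw [AddSubgroupClass.coe_zsmul, Pi.smul_apply, smul_eq_mul, bv_val k.isLt, dec8]

/-- The dual vector `k`. -/
noncomputable def dualV (k : ℕ) : leechLattice := zComb (gramInv.getD k [])

theorem gram_len {k : ℕ} (hk : k < 24) : (gramInv.getD k []).length = 24 := by
  have h := basis_ok
  simp only [basisOK, Bool.and_eq_true, beq_iff_eq, List.all_eq_true (l := gramInv)] at h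
  exact h.1.1.1.1.1.2 _ (by rw [List.getD_eq_getElem _ _ (by omega)]; exact List.getElem_mem _)

theorem dualV_apply {k : ℕ} (hk : k < 24) (p : GolayPt) :
    (dualV k : GolayPt → ℤ) p = (dualData.getD k []).getD (Mathieu.ptEnc p).val 0 := by
  rw [dualV, zComb_apply (gram_len hk), basis_spec.2.1 k hk _ (Mathieu.ptEnc p).isLt]

/-- The coefficient `k` of a vector. -/
noncomputable def coef (k : ℕ) (v : leechLattice) : ℤ := dotInt (v : GolayPt → ℤ) (dualV k : GolayPt → ℤ) / 8

theorem eight_coef (k : ℕ) (v : leechLattice) :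
    8 * coef k v = dotInt (v : GolayPt → ℤ) (dualV k : GolayPt → ℤ) :=
  Int.mul_ediv_cancel' (dot_eight_dvd v (dualV k))

theorem span (v : leechLattice) : v = ∑ k : Fin 24, coef k v • bv k := by
  refine Subtype.ext (funext fun p => ?_)
  rw [AddSubgroup.val_finset_sum, Finset.sum_apply]
  refine mul_left_cancel₀ (show (8 : ℤ) ≠ 0 by norm_num) ?_
  rw [Finset.mul_sum]
  have e : ∀ k : Fin 24, 8 * ((coef k v • bv k : leechLattice) : GolayPt → ℤ) p =
      ∑ q : GolayPt, (v : GolayPt → ℤ) q *
        (dig8 (basisData.getD k 0) (Mathieu.ptEnc p).val * (dualData.getD k []).getD (Mathieu.ptEnc q).val 0) := by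
    intro k
    rw [AddSubgroupClass.coe_zsmul, Pi.smul_apply, smul_eq_mul, ← mul_assoc, eight_coef, dotInt, Finset.sum_mul,
      bv_val k.isLt]
    refine Finset.sum_congr rfl fun q _ => ?_
    rw [dualV_apply k.isLt, dec8]; ring
  simp only [e]
  rw [Finset.sum_comm]
  simp only [← Finset.mul_sum]
  have e2 : ∀ q : GolayPt, (∑ k : Fin 24, dig8 (basisData.getD k 0) (Mathieu.ptEnc p).val *
      (dualData.getD k []).getD (Mathieu.ptEnc q).val 0) = if p = q then 8 else 0 := by
    intro q
    have h := basis_spec.2.2.1 _ (Mathieu.ptEnc p).isLt _ (Mathieu.ptEnc q).isLt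
    rw [zipWith_sum _ 0 [] 24 _ _ basis_spec.2.2.2.2.1 basis_spec.2.2.2.2.2.1] at h
    rw [h]
    by_cases hpq : p = q
    · simp [hpq]
    · rw [if_neg hpq, if_neg fun h => hpq (Mathieu.ptEnc.injective (Fin.ext h))]
  simp only [e2, mul_ite, mul_zero, Finset.sum_ite_eq, Finset.mem_univ, if_true]
  ring

theorem coef_bv {k j : ℕ} (hk : k < 24) (hj : j < 24) : coef k (bv j) = if k = j then 1 else 0 := by
  refine mul_left_cancel₀ (show (8 : ℤ) ≠ 0 by norm_num) ?_
  rw [eight_coef, dotInt]
  have h := basis_spec.2.2.2.1 k hk j hj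
  rw [zipWith_sum _ 0 0 24 _ _ List.length_range (basis_spec.2.2.2.2.2.2 k hk)] at h
  calc ∑ q, (bv j : GolayPt → ℤ) q * (dualV k : GolayPt → ℤ) q
      = ∑ q : GolayPt, dig8 (basisData.getD j 0) (Mathieu.ptEnc q).val *
          (dualData.getD k []).getD (Mathieu.ptEnc q).val 0 := Finset.sum_congr rfl fun q _ => by
        rw [bv_val hj, dualV_apply hk, dec8]
    _ = ∑ n : Fin 24, dig8 (basisData.getD j 0) n.val * (dualData.getD k []).getD n.val 0 :=
        sum_pt fun n => dig8 (basisData.getD j 0) n * (dualData.getD k []).getD n 0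
    _ = if k = j then 8 else 0 := by
        rw [← h]
        refine Finset.sum_congr rfl fun n _ => ?_
        rw [List.getD_eq_getElem (List.range 24) 0 (by simp), List.getElem_range]
        ring
    _ = _ := by split_ifs <;> norm_num

/-- The coefficient `k` modulo 2. -/
noncomputable def coefQ (k : ℕ) : Q2 →+ ZMod 2 :=
  QuotientAddGroup.lift twiceL
    { toFun := fun v => (coef k v : ZMod 2)
      map_zero' := by simp [coef, dotInt]
      map_add' := fun v w => by
        have : coef k (v + w) = coef k v + coef k w := by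
          refine mul_left_cancel₀ (show (8 : ℤ) ≠ 0 by norm_num) ?_
          rw [mul_add, eight_coef, eight_coef, eight_coef]
          simp [dotInt, add_mul, Finset.sum_add_distrib]
        rw [this]; push_cast; rfl }
    (by
      rintro _ ⟨v, rfl⟩
      rw [AddMonoidHom.mem_ker]
      show ((coef k (2 • v) : ℤ) : ZMod 2) = 0
      have : coef k (2 • v) = 2 * coef k v := by
        refine mul_left_cancel₀ (show (8 : ℤ) ≠ 0 by norm_num) ?_
        rw [← mul_assoc, mul_comm (8 : ℤ) 2, mul_assoc, eight_coef, eight_coef]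
        simp only [dotInt, Finset.mul_sum, AddSubgroup.coe_nsmul, Pi.smul_apply]
        exact Finset.sum_congr rfl fun q _ => by rw [nsmul_eq_mul]; push_cast; ring
      rw [this]; simp [show (2 : ZMod 2) = 0 from rfl])

theorem coefQ_q2 (k : ℕ) (v : leechLattice) : coefQ k (q2 v) = (coef k v : ZMod 2) := rfl

/-- The functional of a mask. -/
noncomputable def phiQ (φ : ℕ) : Q2 →+ ZMod 2 :=
  ∑ k ∈ (Finset.range 24).filter (fun k => φ / 2 ^ k % 2 = 1), coefQ k

theorem bQ_eq : bQ = (List.range 24).map fun k => q2 (bv k) := by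
  rw [bQ, bvs_eq, List.map_map]; rfl

/-- The values of the functional of a mask on the basis. -/
def phiVals (φ : ℕ) : List (ZMod 2) := (List.range 24).map fun j => if φ / 2 ^ j % 2 = 1 then 1 else 0

theorem phiQ_bQ (φ : ℕ) : bQ.map (phiQ φ) = phiVals φ := by
  rw [bQ_eq, List.map_map, phiVals]
  refine List.map_congr_left fun j hj => ?_
  rw [List.mem_range] at hj
  simp only [Function.comp_apply, phiQ, AddMonoidHom.finsetSum_apply]
  rw [Finset.sum_congr rfl fun k hk => by
    rw [coefQ_q2, coef_bv (Finset.mem_range.1 (Finset.mem_filter.1 hk).1) hj]]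
  simp [Finset.sum_ite_eq', hj]

theorem phiQ_cQ (φ m : ℕ) : phiQ φ (cQ bQ m) = cQ (phiVals φ) m := by rw [map_cQ, phiQ_bQ]

/-! ### Elements from their masks -/

theorem q2_eq (v : leechLattice) : q2 v = ∑ k : Fin 24, coef k v • q2 (bv k) := by
  conv_lhs => rw [span v]
  rw [map_sum]
  exact Finset.sum_congr rfl fun k _ => map_zsmul q2 _ _

theorem actQ_ext {g h : Co0} {l : List ℕ} (hg : Rep g l) (hh : Rep h l) (x : Q2) : actQ g x = actQ h x := by
  obtain ⟨v, rfl⟩ := QuotientAddGroup.mk'_surjective twiceL x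
  rw [q2_eq, map_sum, map_sum]
  refine Finset.sum_congr rfl fun k _ => ?_
  rw [map_zsmul, map_zsmul]
  congr 1
  have h1 : bQ.map (actQ g) = bQ.map (actQ h) := hg.trans hh.symm
  rw [List.map_inj_left] at h1
  exact h1 _ (by rw [bQ_eq]; exact List.mem_map.2 ⟨k, List.mem_range.2 k.isLt, rfl⟩)

/-- Equal masks give elements equal up to the centre. -/
theorem eq_mod_center {g h : Co0} {l : List ℕ} (hg : Rep g l) (hh : Rep h l) :
    g⁻¹ * h ∈ Subgroup.center Co0 := by
  refine mem_center_of_trivial_mod_two _ fun v => ?_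
  have e : q2 ((g⁻¹ * h) • v) = q2 v := by
    rw [← actQ_q2, actQ_mul, ← actQ_ext hg hh, ← actQ_mul, inv_mul_cancel, actQ_one]
  obtain ⟨w, hw⟩ : (g⁻¹ * h) • v - v ∈ twiceL := by
    have := QuotientAddGroup.eq.1 e.symm
    rwa [neg_add_eq_sub] at this
  refine ⟨w, ?_⟩
  have := congrArg Subtype.val hw
  simpa using this.symm

theorem actQ_neg (x : Q2) : actQ negElt x = x := by
  obtain ⟨v, rfl⟩ := QuotientAddGroup.mk'_surjective twiceL x
  rw [actQ_q2, negElt_smul, map_neg]
  exact neg_eq_of_add_eq_zero_left (two_Q2 _)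

theorem Rep.neg {g : Co0} {l : List ℕ} (h : Rep g l) : Rep (negElt * g) l :=
  (List.map_congr_left fun x _ => by rw [actQ_mul, actQ_neg]).trans h

/-- The masks of the identity. -/
def oneMasks : List ℕ := (List.range 24).map fun j => 2 ^ j

theorem cQ_two_pow {M : Type*} [AddCommMonoid M] :
    ∀ (vs : List M) (j : ℕ), j < vs.length → cQ vs (2 ^ j) = vs.getD j 0
  | v :: vs, 0, _ => by simp [cQ, cQ_zero]
  | v :: vs, j + 1, h => by
    have e1 : 2 ^ (j + 1) % 2 = 0 := by rw [pow_succ]; omega
    have e2 : 2 ^ (j + 1) / 2 = 2 ^ j := by rw [pow_succ]; omega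
    simp only [cQ, e1, e2, cQ_two_pow vs j (by simpa using h)]
    simp

theorem rep_one : Rep 1 oneMasks := by
  rw [Rep, List.map_congr_left (fun x _ => actQ_one x), List.map_id', oneMasks, List.map_map]
  refine List.ext_getElem (by simp [bQ_eq]) fun j h1 h2 => ?_
  simp only [List.getElem_map, List.getElem_range, Function.comp_apply]
  rw [cQ_two_pow bQ j h1, List.getD_eq_getElem _ _ h1]

theorem exists_rep_base {a : ℕ} (ha : a < 6) : ∃ g : Co0, Rep g (baseMasks.getD a []) := by
  have h := gens_ok
  simp only [gensOK, Bool.and_eq_true, beq_iff_eq, List.all_eq_true (l := List.range 6),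
    List.all_eq_true (l := List.range 24), List.all_eq_true (l := baseGens), List.mem_range] at h
  obtain ⟨⟨hlen, hok⟩, hall⟩ := h
  obtain ⟨⟨hl, hm⟩, hj⟩ := hall a ha
  refine ⟨el (baseGens.getD a []), ?_⟩
  rw [Rep, bQ_eq, ← hm, List.map_map, List.map_map]
  refine List.ext_getElem (by rw [List.length_map, List.length_map, List.length_range, hl]) fun j h1 h2 => ?_
  simp only [List.length_map, List.length_range] at h1
  simp only [List.getElem_map, List.getElem_range, Function.comp_apply]
  obtain ⟨hlj, hs⟩ := hj j h1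
  have hd : (genCoords.getD a [])[j]'(by omega) = (genCoords.getD a []).getD j [] :=
    (List.getD_eq_getElem _ _ _).symm
  rw [hd]
  set cs := (genCoords.getD a []).getD j []
  split at hs
  · exact absurd hs Bool.false_ne_true
  rename_i W hW
  simp only [List.all_eq_true, List.mem_range, beq_iff_eq] at hs
  rw [actQ_q2, ← bQ_eq]
  have e : el (baseGens.getD a []) • bv j = zComb cs := by
    refine Subtype.ext ?_
    rw [← wordEl_singleton, evalW_spec _ (hok _ (by
      rw [List.getD_eq_getElem _ _ (by omega)]; exact List.getElem_mem _)) _ _ _ (bv_val h1) hW]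
    funext p
    rw [zComb_apply hlj]
    exact hs _ (Mathieu.ptEnc p).isLt
  rw [e, zComb, bQ]
  exact q2_zsum cs bvs (by simp [hlj, bvs_eq])

/-! ### Products -/

/-- The masks packed in a number. -/
def unpack (c : ℕ) : List ℕ := (List.range 24).map fun j => Nat.land (Nat.shiftRight c (Nat.mul 24 j)) 16777215

/-- The entry of a table in rows of 64. -/
def getRow (t : List (List ℕ)) (i : ℕ) : ℕ := (t.getD (i / 64) []).getD (i % 64) 0

/-- Each entry listed from row `r` on is the product of two earlier ones. -/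
def slpOK (t : List (List ℕ)) (steps : List (ℕ × ℕ)) (start : ℕ) : Bool :=
  (List.range steps.length).all fun k =>
    let s := steps.getD k (0, 0)
    decide (s.1 < start + k) && decide (s.2 < start + k) &&
      (mulL (unpack (getRow t s.1)) (unpack (getRow t s.2)) == unpack (getRow t (start + k)))

theorem rep_slp {t : List (List ℕ)} {steps : List (ℕ × ℕ)} {start : ℕ} (h : slpOK t steps start = true)
    (hb : ∀ i < start, ∃ g : Co0, Rep g (unpack (getRow t i))) :
    ∀ i < start + steps.length, ∃ g : Co0, Rep g (unpack (getRow t i)) := by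
  intro i
  induction i using Nat.strong_induction_on with
  | _ i ih =>
    intro hi
    rcases Nat.lt_or_ge i start with h' | h'
    · exact hb i h'
    simp only [slpOK, List.all_eq_true, List.mem_range, Bool.and_eq_true, decide_eq_true_eq, beq_iff_eq] at h
    obtain ⟨⟨h1, h2⟩, h3⟩ := h (i - start) (by omega)
    rw [show start + (i - start) = i by omega] at h1 h2 h3
    obtain ⟨g, hg⟩ := ih _ h1 (by omega)
    obtain ⟨g', hg'⟩ := ih _ h2 (by omega)
    exact ⟨g * g', h3 ▸ hg.mul hg'⟩

/-- The masks of a word. -/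
def imgW (ls : List (List ℕ)) : List ℕ → List ℕ
  | [] => oneMasks
  | i :: w => mulL (ls.getD i []) (imgW ls w)

theorem rep_prodW {ls : List (List ℕ)} {g : ℕ → Co0} (hg : ∀ i < ls.length, Rep (g i) (ls.getD i [])) :
    ∀ w : List ℕ, (∀ i ∈ w, i < ls.length) → Rep (prodW g w) (imgW ls w)
  | [], _ => by simpa [prodW, imgW] using rep_one
  | i :: w, h => by
    rw [Schur.StableCert.prodW_cons, imgW]
    exact (hg i (h i List.mem_cons_self)).mul (rep_prodW hg w fun j hj => h j (List.mem_cons_of_mem _ hj))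

/-- The two sides of every rule have the same masks. -/
def rulesOK (ls : List (List ℕ)) (rules : List (List ℕ × List ℕ)) : Bool :=
  rules.all fun r => r.1.all (fun i => decide (i < ls.length)) && r.2.all (fun i => decide (i < ls.length)) &&
    (imgW ls r.1 == imgW ls r.2)

theorem rules_center {ls : List (List ℕ)} {rules : List (List ℕ × List ℕ)} (h : rulesOK ls rules = true)
    {g : ℕ → Co0} (hg : ∀ i < ls.length, Rep (g i) (ls.getD i [])) :
    ∀ r ∈ rules, (prodW g r.1)⁻¹ * prodW g r.2 ∈ Subgroup.center Co0 := by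
  intro r hr
  simp only [rulesOK, List.all_eq_true (l := rules), Bool.and_eq_true, List.all_eq_true, decide_eq_true_eq,
    beq_iff_eq] at h
  obtain ⟨⟨h1, h2⟩, h3⟩ := h r hr
  exact eq_mod_center (rep_prodW hg r.1 h1) (h3 ▸ rep_prodW hg r.2 h2)

/-! ### Separation -/

/-- Reduction by a list of masks. -/
def red : List ℕ → ℕ → ℕ
  | [], v => v
  | w :: ws, v => red ws (Nat.min v (Nat.xor v w))

theorem red_mem (S : AddSubgroup Q2) : ∀ (ws : List ℕ), (∀ w ∈ ws, cQ bQ w ∈ S) → ∀ v, red ws v = 0 → cQ bQ v ∈ S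
  | [], _, v, h => by
    rw [red] at h
    rw [h, cQ_zero]; exact zero_mem _
  | w :: ws, hw, v, h => by
    rw [red] at h
    have := red_mem S ws (fun x hx => hw x (List.mem_cons_of_mem _ hx)) _ h
    rcases Nat.le_total v (Nat.xor v w) with hle | hle
    · rwa [show Nat.min v (Nat.xor v w) = v from min_eq_left hle] at this
    · rw [show Nat.min v (Nat.xor v w) = v ^^^ w from min_eq_right hle, cQ_xor two_Q2] at this
      have h2 := S.add_mem this (hw w List.mem_cons_self)
      rwa [add_assoc, two_Q2, add_zero] at h2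

/-- The data `(W, c, φ)` separates the element `i` from the later ones below `n`. -/
def sepOK (ls : List (List ℕ)) (n i : ℕ) (d : List ℕ × ℕ × ℕ) : Bool :=
  ((List.range n).all fun j => decide (j ≤ i) ||
      (d.1.all (fun w => red d.1 (appL (ls.getD j []) w) == 0) &&
        (red d.1 (Nat.xor (appL (ls.getD j []) d.2.1) d.2.1) == 0))) &&
    d.1.all (fun w => decide (cQ (phiVals d.2.2) w = 0)) &&
    (decide (cQ (phiVals d.2.2) (Nat.xor (appL (ls.getD i []) d.2.1) d.2.1) = 1) ||
      d.1.any fun w => decide (cQ (phiVals d.2.2) (appL (ls.getD i []) w) = 1))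

theorem not_mem_closure {ls : List (List ℕ)} {n i : ℕ} {d : List ℕ × ℕ × ℕ} (h : sepOK ls n i d = true)
    (hi : i < n) (hn : n ≤ ls.length) {g : ℕ → Co0} (hg : ∀ i < ls.length, Rep (g i) (ls.getD i []))
    (z : Co0) (hz : ∀ x : Q2, actQ z x = x) :
    z * g i ∉ Subgroup.closure ({z} ∪ g '' Set.Ioo i n) := by
  obtain ⟨W, c, φ⟩ := d
  simp only [sepOK, Bool.and_eq_true, Bool.or_eq_true, List.all_eq_true (l := List.range n), List.mem_range,
    List.all_eq_true (l := W), List.any_eq_true, decide_eq_true_eq, beq_iff_eq] at h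
  obtain ⟨⟨hinv, hphi⟩, hmove⟩ := h
  set S : AddSubgroup Q2 := AddSubgroup.closure {x | ∃ w ∈ W, cQ bQ w = x}
  have hW : ∀ w ∈ W, cQ bQ w ∈ S := fun w hw => AddSubgroup.subset_closure ⟨w, hw, rfl⟩
  have hS : S ≤ (phiQ φ).ker := (AddSubgroup.closure_le _).2 (by
    rintro _ ⟨w, hw, rfl⟩
    exact AddMonoidHom.mem_ker.2 ((phiQ_cQ φ w).trans (hphi w hw)))
  let P : Co0 → Prop := fun y => (∀ x ∈ S, actQ y x ∈ S) ∧ actQ y (cQ bQ c) + cQ bQ c ∈ S
  have hP1 : P 1 := ⟨fun x hx => by rwa [actQ_one], by rw [actQ_one, two_Q2]; exact zero_mem _⟩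
  have hPmul : ∀ x y, P x → P y → P (x * y) := by
    rintro x y ⟨hx1, hx2⟩ ⟨hy1, hy2⟩
    refine ⟨fun v hv => by rw [actQ_mul]; exact hx1 _ (hy1 _ hv), ?_⟩
    have := S.add_mem (hx1 _ hy2) hx2
    rw [map_add, add_assoc, ← add_assoc (actQ x (cQ bQ c)), two_Q2, zero_add] at this
    rwa [actQ_mul]
  intro hmem
  have hP : P (z * g i) := by
    have hsm : z * g i ∈ Submonoid.closure ({z} ∪ g '' Set.Ioo i n) := by
      rw [← Subgroup.closure_toSubmonoid_of_finite]; exact hmem
    refine Submonoid.closure_induction ?_ hP1 (fun x y _ _ => hPmul x y) hsm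
    rintro y (rfl | ⟨j, ⟨hij, hjn⟩, rfl⟩)
    · exact ⟨fun x hx => by rwa [hz], by rw [hz, two_Q2]; exact zero_mem _⟩
    · obtain ⟨h1, h2⟩ := (hinv j hjn).resolve_left (by omega)
      have hj := hg j (by omega)
      refine ⟨fun x hx => ?_, ?_⟩
      · induction hx using AddSubgroup.closure_induction with
        | mem x hx =>
          obtain ⟨w, hw, rfl⟩ := hx
          rw [hj.apply]; exact red_mem S W hW _ (h1 w hw)
        | zero => rw [map_zero]; exact zero_mem _
        | add x y _ _ hx hy => rw [map_add]; exact add_mem hx hy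
        | neg x _ hx => rw [map_neg]; exact neg_mem hx
      · rw [hj.apply, ← cQ_xor two_Q2]; exact red_mem S W hW _ h2
  obtain ⟨h1, h2⟩ := hP
  have hgi := hg i (by omega)
  rcases hmove with hc | ⟨w, hw, hc⟩
  · rw [actQ_mul, hz, hgi.apply, ← cQ_xor two_Q2] at h2
    have := AddMonoidHom.mem_ker.1 (hS h2)
    rw [phiQ_cQ] at this
    exact one_ne_zero (hc.symm.trans this)
  · have := h1 _ (hW w hw)
    rw [actQ_mul, hz, hgi.apply] at this
    have := AddMonoidHom.mem_ker.1 (hS this)
    rw [phiQ_cQ] at this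
    exact one_ne_zero (hc.symm.trans this)

end Cfsg.Agent.ConwayModTwo
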