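import Cfsg.Agent.Lib.ConwayModTwo.Basis
import Cfsg.Agent.Lib.Leech.ModTwo

/-!
Elements of Co0 as lists of 24 masks: the images of a basis modulo twice the lattice.

The action modulo twice the lattice has central kernel, so equal lists give elements equal up to the centre.
-/

set_option autoImplicit false
set_option maxRecDepth 20000

namespace Cfsg.Agent.ConwayModTwo

open Cfsg Cfsg.Agent.Leech Cfsg.Agent.ConwayOut

/-! ### Bit matrices -/

/-- The combination of the rows selected by a mask. -/
def appL : List ℕ → ℕ → ℕ
  | [], _ => 0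
  | r :: rs, m => Nat.xor (if m % 2 = 1 then r else 0) (appL rs (m / 2))

/-- The product of two lists of images. -/
def mulL (a b : List ℕ) : List ℕ := b.map (appL a)

/-- The mask of the odd coefficients. -/
def parMask : List ℤ → ℕ
  | [] => 0
  | c :: cs => Nat.add (cond (c % 2 == 1) 1 0) (Nat.mul 2 (parMask cs))

/-- The combination selected by a mask. -/
def cQ {M : Type*} [AddCommMonoid M] : List M → ℕ → M
  | [], _ => 0
  | v :: vs, m => (if m % 2 = 1 then v else 0) + cQ vs (m / 2)

theorem cQ_xor {M : Type*} [AddCommMonoid M] (two : ∀ x : M, x + x = 0) :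
    ∀ (vs : List M) (a b : ℕ), cQ vs (a ^^^ b) = cQ vs a + cQ vs b
  | [], _, _ => by simp [cQ]
  | v :: vs, a, b => by
    simp only [cQ, Nat.xor_div_two, cQ_xor two vs]
    have hm : (a ^^^ b) % 2 = (a % 2 + b % 2) % 2 := by
      rw [Nat.xor_mod_two_eq]; omega
    rw [hm]
    rcases Nat.mod_two_eq_zero_or_one a with ha | ha <;> rcases Nat.mod_two_eq_zero_or_one b with hb | hb <;>
      simp [ha, hb] <;> abel_nf <;> simp [two_nsmul, two, ← add_assoc]

theorem cQ_zero {M : Type*} [AddCommMonoid M] : ∀ vs : List M, cQ vs 0 = 0
  | [] => rfl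
  | v :: vs => by simp [cQ, cQ_zero vs]

theorem map_cQ {M N : Type*} [AddCommMonoid M] [AddCommMonoid N] (f : M →+ N) :
    ∀ (vs : List M) (m : ℕ), f (cQ vs m) = cQ (vs.map f) m
  | [], _ => by simp [cQ]
  | v :: vs, m => by
    simp only [cQ, List.map_cons, map_add, map_cQ f vs]
    congr 1
    split_ifs <;> simp

theorem cQ_appL {M : Type*} [AddCommMonoid M] (two : ∀ x : M, x + x = 0) (vs : List M) :
    ∀ (l : List ℕ) (m : ℕ), cQ (l.map (cQ vs)) m = cQ vs (appL l m)
  | [], _ => by simp [cQ, appL, cQ_zero]
  | r :: rs, m => by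
    simp only [List.map_cons, cQ, appL, cQ_appL two vs rs]
    rw [show Nat.xor (if m % 2 = 1 then r else 0) (appL rs (m / 2)) =
      (if m % 2 = 1 then r else 0) ^^^ appL rs (m / 2) from rfl, cQ_xor two]
    congr 1
    split_ifs <;> simp [cQ_zero]

/-! ### The lattice modulo twice itself -/

/-- Twice the lattice. -/
def twiceL : AddSubgroup leechLattice := (nsmulAddMonoidHom 2 : leechLattice →+ leechLattice).range

/-- The lattice modulo twice itself. -/
abbrev Q2 : Type := leechLattice ⧸ twiceL

/-- The reduction. -/
abbrev q2 : leechLattice →+ Q2 := QuotientAddGroup.mk' twiceL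

theorem two_Q2 (x : Q2) : x + x = 0 := by
  obtain ⟨v, rfl⟩ := QuotientAddGroup.mk'_surjective twiceL x
  rw [← map_add, QuotientAddGroup.mk'_apply, QuotientAddGroup.eq_zero_iff]
  exact ⟨v, two_nsmul v⟩

theorem q2_zsmul (c : ℤ) (v : leechLattice) : q2 (c • v) = cond (c % 2 == 1) (q2 v) 0 := by
  rw [map_zsmul]
  obtain ⟨k, rfl | rfl⟩ := Int.even_or_odd' c
  · have e : (2 * k) % 2 = 0 := by omega
    rw [mul_zsmul, e]
    simp [two_zsmul, two_Q2]
  · have e : (2 * k + 1) % 2 = 1 := by omega
    rw [add_zsmul, mul_zsmul, e]
    simp [two_zsmul, two_Q2]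

theorem q2_zsum : ∀ (cs : List ℤ) (vs : List leechLattice), cs.length = vs.length →
    q2 (List.zipWith (· • ·) cs vs).sum = cQ (vs.map q2) (parMask cs)
  | [], [], _ => by simp [cQ]
  | c :: cs, v :: vs, h => by
    simp only [List.length_cons, add_left_inj] at h
    simp only [List.zipWith_cons_cons, List.sum_cons, map_add, q2_zsum cs vs h, q2_zsmul, List.map_cons, cQ,
      parMask]
    have e1 : (Nat.add (cond (c % 2 == 1) 1 0) (Nat.mul 2 (parMask cs))) % 2 = cond (c % 2 == 1) 1 0 := by
      show (cond (c % 2 == 1) 1 0 + 2 * parMask cs) % 2 = _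
      cases (c % 2 == 1) <;> simp <;> omega
    have e2 : (Nat.add (cond (c % 2 == 1) 1 0) (Nat.mul 2 (parMask cs))) / 2 = parMask cs := by
      show (cond (c % 2 == 1) 1 0 + 2 * parMask cs) / 2 = _
      cases (c % 2 == 1) <;> simp <;> omega
    rw [e1, e2]
    cases (c % 2 == 1) <;> simp

/-- The action on the quotient. -/
def actQ (g : Co0) : Q2 →+ Q2 := QuotientAddGroup.map twiceL twiceL (actHom g) (by
  rintro _ ⟨v, rfl⟩
  exact ⟨g • v, (co0_nsmul g 2 v).symm⟩)

theorem actQ_q2 (g : Co0) (v : leechLattice) : actQ g (q2 v) = q2 (g • v) := rfl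

theorem actQ_mul (g h : Co0) (x : Q2) : actQ (g * h) x = actQ g (actQ h x) := by
  obtain ⟨v, rfl⟩ := QuotientAddGroup.mk'_surjective twiceL x
  show q2 ((g * h) • v) = q2 (g • h • v)
  rw [mul_smul]

theorem actQ_one (x : Q2) : actQ 1 x = x := by
  obtain ⟨v, rfl⟩ := QuotientAddGroup.mk'_surjective twiceL x
  show q2 ((1 : Co0) • v) = q2 v
  rw [one_smul]

/-! ### The basis -/

/-- The sum of a combination at a coordinate number. -/
def sumAt (cs : List ℤ) (n : ℕ) : ℤ := (List.zipWith (fun c V => c * dig8 V n) cs basisData).sum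

open Classical in
/-- The vector with the packed coordinates `V`. -/
noncomputable def ofPack (V : ℕ) : leechLattice := if h : dec8 V ∈ leechLattice then ⟨_, h⟩ else 0

/-- The basis. -/
noncomputable def bvs : List leechLattice := basisData.map ofPack

/-- The basis modulo twice the lattice. -/
noncomputable def bQ : List Q2 := bvs.map q2

/-- The vector of a list of coefficients. -/
noncomputable def zComb (cs : List ℤ) : leechLattice := (List.zipWith (· • ·) cs bvs).sum

/-- The basis lies in the lattice, `dualData` are the combinations by `gramInv`, and they are dual to the basis. -/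
def basisOK : Bool :=
  (basisData.length == 24) && (basisData.all fun V => inLB (dec8 V)) && (gramInv.length == 24) &&
    (gramInv.all fun r => r.length == 24) && (dualData.length == 24) &&
    ((List.range 24).all fun k => (List.range 24).all fun n =>
      (dualData.getD k []).getD n 0 == sumAt (gramInv.getD k []) n) &&
    ((List.range 24).all fun n => (List.range 24).all fun m =>
      (List.zipWith (fun V D => dig8 V n * D.getD m 0) basisData dualData).sum == if n = m then 8 else 0) &&
    ((List.range 24).all fun k => (List.range 24).all fun j =>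
      (List.zipWith (fun n d => d * dig8 (basisData.getD j 0) n) (List.range 24) (dualData.getD k [])).sum ==
        if k = j then 8 else 0) &&
    dualData.all fun D => D.length == 24

/-- The generators are as listed. -/
def gensOK : Bool :=
  (baseGens.length == 6) && (baseGens.all fun g => [g].all Gen.ok) &&
    (List.range 6).all fun a =>
      ((genCoords.getD a []).length == 24) && ((genCoords.getD a []).map parMask == baseMasks.getD a []) &&
      (List.range 24).all fun j => (((genCoords.getD a []).getD j []).length == 24) &&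
        match evalW [baseGens.getD a []] (basisData.getD j 0) with
        | none => false
        | some W => (List.range 24).all fun n => dig8 W n == sumAt ((genCoords.getD a []).getD j []) n

/-- The masks of the element `g`. -/
def Rep (g : Co0) (l : List ℕ) : Prop := bQ.map (actQ g) = l.map (cQ bQ)

theorem Rep.apply {g : Co0} {l : List ℕ} (h : Rep g l) (m : ℕ) : actQ g (cQ bQ m) = cQ bQ (appL l m) := by
  rw [map_cQ, h, cQ_appL two_Q2]

theorem Rep.mul {g h : Co0} {a b : List ℕ} (hg : Rep g a) (hh : Rep h b) : Rep (g * h) (mulL a b) := by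
  have e : bQ.map (actQ (g * h)) = (bQ.map (actQ h)).map (actQ g) := by
    rw [List.map_map]; exact List.map_congr_left fun x _ => actQ_mul g h x
  rw [Rep, e, hh, mulL, List.map_map, List.map_map]
  exact List.map_congr_left fun m _ => hg.apply m

end Cfsg.Agent.ConwayModTwo
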