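import Cfsg.Agent.Lib.ConwayModTwo.Group
import Cfsg.Agent.Lib.ConwayModTwo.SlpData
import Cfsg.Agent.Lib.Schur.PcCard

/-!
The checks on a part: elements of the table, a certificate on them, and separating data.
-/

set_option autoImplicit false
set_option maxRecDepth 20000

namespace Cfsg.Agent.ConwayModTwo

open Cfsg Cfsg.Agent.Leech
open Schur.StableCert (prodW Cert)

/-- The table starts with the generators. -/
def tableBaseOK : Bool := (List.range 6).all fun a => unpack (getRow slpTable a) == baseMasks.getD a []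

/-- The mask lists at the given positions of the table. -/
def pick (is : List ℕ) : List (List ℕ) := is.map fun i => unpack (getRow slpTable i)

/-- The checks on a part. -/
def partOK (is : List ℕ) (C : Cert) (seps : List (List ℕ × ℕ × ℕ)) : Bool :=
  is.all (fun i => decide (i < 1786)) && rulesOK (pick is) C.rules && decide (C.n ≤ is.length) &&
    (List.range C.n).all fun i => sepOK (pick is) C.n i (seps.getD i ([], 0, 0))

/-- Elements of the table as elements of Co0. -/
theorem part_data {is : List ℕ} {C : Cert} {seps : List (List ℕ × ℕ × ℕ)} (h : partOK is C seps = true)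
    (htab : ∀ i < 1786, ∃ g : Co0, Rep g (unpack (getRow slpTable i))) :
    ∃ g : ℕ → Co0, (∀ i < is.length, Rep (g i) ((pick is).getD i [])) ∧
      (∀ r ∈ C.rules, (∀ i ∈ r.1, i < is.length) ∧ (∀ i ∈ r.2, i < is.length) ∧
        (prodW g r.1)⁻¹ * prodW g r.2 ∈ Subgroup.center Co0) ∧
      C.n ≤ is.length ∧
      ∀ i < C.n, ∀ z : Co0, (∀ x : Q2, actQ z x = x) →
        z * g i ∉ Subgroup.closure ({z} ∪ g '' Set.Ioo i C.n) := by
  simp only [partOK, Bool.and_eq_true, List.all_eq_true (l := is), List.all_eq_true (l := List.range C.n),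
    List.mem_range, decide_eq_true_eq] at h
  obtain ⟨⟨⟨his, hrules⟩, hn⟩, hsep⟩ := h
  have get : ∀ i, ∃ g : Co0, i < is.length → Rep g ((pick is).getD i []) := fun i => by
    by_cases hi : i < is.length
    · obtain ⟨g, hg⟩ := htab _ (his _ (List.getElem_mem hi))
      refine ⟨g, fun _ => ?_⟩
      rwa [pick, List.getD_eq_getElem _ _ (by simpa using hi), List.getElem_map]
    · exact ⟨1, fun h => absurd h hi⟩
  choose g hg using get
  have hl : (pick is).length = is.length := List.length_map _
  refine ⟨g, hg, fun r hr => ?_, hn, fun i hi z hz => ?_⟩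
  · refine ⟨?_, ?_, rules_center hrules (fun i hi => hg i (hl ▸ hi)) r hr⟩
    · simp only [rulesOK, List.all_eq_true (l := C.rules), Bool.and_eq_true, List.all_eq_true,
        decide_eq_true_eq, hl] at hrules
      exact (hrules r hr).1.1
    · simp only [rulesOK, List.all_eq_true (l := C.rules), Bool.and_eq_true, List.all_eq_true,
        decide_eq_true_eq, hl] at hrules
      exact (hrules r hr).1.2
  · exact not_mem_closure (hsep i hi) hi (hl ▸ hn) (fun i hi => hg i (hl ▸ hi)) z hz

/-- The order and index of a Sylow subgroup from its order. -/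
theorem not_dvd_index {G : Type*} [Group G] {N : ℕ} (hN : Nat.card G = N) {H : Subgroup G} {p k m : ℕ}
    (hH : Nat.card H = p ^ k) (hm : N = p ^ k * m) (hpm : ¬ p ∣ m) (hp : 0 < p) : ¬ p ∣ H.index := by
  have h := H.card_mul_index
  rw [hH, hN, hm] at h
  rwa [Nat.eq_of_mul_eq_mul_left (pow_pos hp k) h]

theorem eq_of_sq_dvd {p : ℕ} (hp : p.Prime) :
    ∀ (qs : List (ℕ × ℕ)), (∀ q ∈ qs, q.1.Prime) → p ^ 2 ∣ (qs.map fun q => q.1 ^ q.2).prod →
      p ∈ qs.map Prod.fst
  | [], _, h => by
    simp only [List.map_nil, List.prod_nil, Nat.dvd_one] at h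
    exact absurd ((Nat.pow_eq_one).1 h) (by simp [hp.ne_one])
  | (q, k) :: qs, hq, h => by
    rw [List.map_cons]
    by_cases hpq : p = q
    · exact hpq ▸ List.mem_cons_self
    refine List.mem_cons_of_mem _ (eq_of_sq_dvd hp qs (fun x hx => hq x (List.mem_cons_of_mem _ hx)) ?_)
    rw [List.map_cons, List.prod_cons] at h
    refine (Nat.Coprime.dvd_mul_left ?_).1 h
    exact Nat.Coprime.pow _ _ ((Nat.coprime_primes hp (hq _ List.mem_cons_self)).2 hpq)

end Cfsg.Agent.ConwayModTwo
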