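import Cfsg.Agent.Lib.ConwayModTwo.Parts

/-!
Checks on the products of the table from entry 1341 on.
-/

set_option autoImplicit false
set_option maxRecDepth 100000

namespace Cfsg.Agent.ConwayModTwo

theorem slp_ok3 : slpOK slpTable slpSteps3 1341 = true := by decide +kernel

theorem slp_len3 : 1341 + slpSteps3.length = 1786 := by decide +kernel

end Cfsg.Agent.ConwayModTwo
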