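import Cfsg.Agent.Lib.ConwayModTwo.SlpCheck0
import Cfsg.Agent.Lib.ConwayModTwo.SlpCheck1
import Cfsg.Agent.Lib.ConwayModTwo.SlpCheck2
import Cfsg.Agent.Lib.ConwayModTwo.SlpCheck3

/-!
Every entry of the table belongs to an element of Co0.
-/

set_option autoImplicit false
set_option maxRecDepth 100000

namespace Cfsg.Agent.ConwayModTwo

open Cfsg

theorem table_base : tableBaseOK = true := by decide +kernel

theorem exists_rep_table : ∀ i < 1786, ∃ g : Co0, Rep g (unpack (getRow slpTable i)) := by
  have h0 : ∀ i < 6, ∃ g : Co0, Rep g (unpack (getRow slpTable i)) := fun i hi => by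
    have h := table_base
    simp only [tableBaseOK, List.all_eq_true, List.mem_range, beq_iff_eq] at h
    rw [h i hi]
    exact exists_rep_base hi
  have h1 := rep_slp slp_ok0 h0
  rw [slp_len0] at h1
  have h2 := rep_slp slp_ok1 h1
  rw [slp_len1] at h2
  have h3 := rep_slp slp_ok2 h2
  rw [slp_len2] at h3
  have h4 := rep_slp slp_ok3 h3
  rwa [slp_len3] at h4

end Cfsg.Agent.ConwayModTwo
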